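import Mathlib
import Cfsg.Agent.SuzSquare.Spec
import Cfsg.Agent.SuzSquare.T
import Cfsg.Agent.SuzSquare.Norm

/-!
Subgroups covering the simple quotient.
-/

set_option autoImplicit false
set_option linter.unusedSectionVars false

namespace Cfsg.Lib.SuzSquare

open Subgroup

universe u v

/-- A group with the shape of the spectrum, mapped onto a simple group with solvable kernel. -/
structure OneTop (m : ℕ) (Γ : Type u) [Group Γ] (F : Type v) [Field F] [Fintype F] where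
  S : Shape m Γ
  Q : Cfsg.Lib.Suz.Par F m
  ψ : Γ →* Cfsg.Sz F m
  surj : Function.Surjective ψ

namespace OneTop

variable {m : ℕ} {Γ : Type u} [Group Γ] [Finite Γ] {F : Type v} [Field F] [Fintype F] (D : OneTop m Γ F)

/-- A subgroup covering the quotient. -/
def Cov (H : Subgroup Γ) : Prop := ∀ a, ∃ h ∈ H, D.ψ h = a

theorem cov_top : D.Cov ⊤ := fun a => let ⟨h, e⟩ := D.surj a; ⟨h, mem_top h, e⟩

theorem Cov.mono {H H' : Subgroup Γ} (hle : H ≤ H') (h : D.Cov H) : D.Cov H' :=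
  fun a => let ⟨x, hx, e⟩ := h a; ⟨x, hle hx, e⟩

include D in
theorem simple : IsSimpleGroup (Cfsg.Sz F m) :=
  haveI := Cfsg.Lib.Suz.lie_simple D.Q
  (Cfsg.Lib.Suz.lieEquiv D.Q).isSimpleGroup

include D in
theorem comm_ne : ∃ a b : Cfsg.Sz F m, a * b ≠ b * a := by
  obtain ⟨h, ho, fp⟩ := fp_zSub D.Q
  obtain ⟨a, ha, ha1⟩ := zSub_nontrivial D.Q
  exact ⟨h, a, fun e => fp.out 1 one_pos fp.lt (by rw [pow_one]; exact fp.cent a ha ha1 h e)⟩

include D in
theorem central_eq_one {a : Cfsg.Sz F m} (h : ∀ b, b * a = a * b) : a = 1 := by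
  haveI := D.simple
  rcases (inferInstance : (center (Cfsg.Sz F m)).Normal).eq_bot_or_eq_top with e | e
  · exact (eq_bot_iff_forall _).1 e a (mem_center_iff.2 h)
  · exfalso
    obtain ⟨a, b, hab⟩ := D.comm_ne
    exact hab (mem_center_iff.1 (e ▸ mem_top b) a)

/-- A subgroup normalised by a covering subgroup and not contained in the kernel covers. -/
theorem cov_of_normal {H K : Subgroup Γ} (hH : D.Cov H) (hn : H ≤ normalizer (K : Set Γ))
    (hK : ∃ k ∈ K, D.ψ k ≠ 1) : D.Cov K := by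
  haveI := D.simple
  haveI : (K.map D.ψ).Normal := ⟨by
    rintro _ ⟨k, hk, rfl⟩ a
    obtain ⟨h, hh, rfl⟩ := hH a
    exact ⟨h * k * h⁻¹, (mem_normalizer_iff.1 (hn hh) k).1 hk, by simp⟩⟩
  rcases (inferInstance : (K.map D.ψ).Normal).eq_bot_or_eq_top with e | e
  · obtain ⟨k, hk, hk1⟩ := hK
    exact absurd ((eq_bot_iff_forall _).1 e _ ⟨k, hk, rfl⟩) hk1
  · intro a
    obtain ⟨k, hk, e'⟩ := (e ▸ mem_top a : a ∈ K.map D.ψ)
    exact ⟨k, hk, e'⟩

/-- The centraliser in a covering subgroup of a normalised subgroup covers as soon as it moves the quotient. -/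
theorem cov_centralizer {H W : Subgroup Γ} (hH : D.Cov H) (hn : H ≤ normalizer (W : Set Γ))
    (hK : ∃ k ∈ H, k ∈ centralizer (W : Set Γ) ∧ D.ψ k ≠ 1) : D.Cov (H ⊓ centralizer (W : Set Γ)) := by
  obtain ⟨k, h1, h2, h3⟩ := hK
  refine D.cov_of_normal hH ?_ ⟨k, ⟨h1, h2⟩, h3⟩
  intro h hh
  rw [mem_normalizer_iff]
  intro a
  have key : ∀ g ∈ H, ∀ b ∈ H ⊓ centralizer (W : Set Γ), g * b * g⁻¹ ∈ H ⊓ centralizer (W : Set Γ) := by
    intro g hg b hb
    refine ⟨H.mul_mem (H.mul_mem hg hb.1) (H.inv_mem hg), mem_centralizer_iff.2 fun w hw => ?_⟩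
    have hw' : g⁻¹ * w * g ∈ W := (mem_normalizer_iff'.1 (hn hg) _).2 (by simpa [mul_assoc] using hw)
    have := mem_centralizer_iff.1 hb.2 _ hw'
    calc w * (g * b * g⁻¹) = g * ((g⁻¹ * w * g) * b) * g⁻¹ := by group
      _ = g * (b * (g⁻¹ * w * g)) * g⁻¹ := by rw [this]
      _ = g * b * g⁻¹ * w := by group
  refine ⟨key h hh a, fun ha => ?_⟩
  have := key h⁻¹ (H.inv_mem hh) _ ha
  simpa [mul_assoc] using this

/-- Lifts of elements of maximal order. -/
theorem lift {H : Subgroup Γ} (hH : D.Cov H) {i : Fin 4} {a : Cfsg.Sz F m} (ha : orderOf a = tor m i) :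
    ∃ y ∈ H, D.ψ y = a ∧ orderOf y = tor m i := by
  obtain ⟨x, hx, rfl⟩ := hH a
  obtain ⟨y, hy, e, ho⟩ := D.S.exact_lift D.ψ ha
  exact ⟨y, zpowers_le.2 hx hy, e, ho⟩

theorem exists_order {H : Subgroup Γ} (hH : D.Cov H) (i : Fin 4) :
    ∃ y ∈ H, orderOf y = tor m i ∧ orderOf (D.ψ y) = tor m i := by
  obtain ⟨a, ha⟩ := order_exists D.Q i
  obtain ⟨y, hy, e, ho⟩ := D.lift hH ha
  exact ⟨y, hy, ho, e.symm ▸ ha⟩

theorem exists_involution {H : Subgroup Γ} (hH : D.Cov H) :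
    ∃ t ∈ H, t * t = 1 ∧ D.ψ t ≠ 1 ∧ orderOf t = 2 := by
  obtain ⟨y, hy, ho, hoa⟩ := D.exists_order hH 0
  have e : orderOf (y ^ 2) = 2 := by
    rw [orderOf_pow_of_dvd two_ne_zero (ho ▸ (by decide : 2 ∣ 4)), ho]
    norm_num [tor]
  refine ⟨y ^ 2, pow_mem hy 2, ?_, fun h => ?_, e⟩
  · rw [← pow_two, ← pow_orderOf_eq_one (y ^ 2), e]
  · rw [map_pow] at h
    have h2 := Nat.le_of_dvd two_pos (hoa ▸ orderOf_dvd_of_pow_eq_one h)
    exact absurd (show (4 : ℕ) ≤ 2 from h2) (by norm_num)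

/-- An involution fixes an element of a normalised group of odd order, or the centraliser covers. -/
theorem fix_involution {H W : Subgroup Γ} (hH : D.Cov H) (hn : H ≤ normalizer (W : Set Γ))
    (hodd : Odd (Nat.card W)) {t : Γ} (htH : t ∈ H) (ht : t * t = 1) (htψ : D.ψ t ≠ 1) :
    (∃ w ∈ W, w ≠ 1 ∧ Commute t w) ∨ D.Cov (H ⊓ centralizer (W : Set Γ)) := by
  by_cases hfix : ∃ w ∈ W, w ≠ 1 ∧ Commute t w
  · exact Or.inl hfix
  right
  push Not at hfix
  have hti : t⁻¹ = t := inv_eq_of_mul_eq_one_right ht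
  let φ : W →* W :=
    { toFun := fun w => ⟨t * w * t⁻¹, (mem_normalizer_iff.1 (hn htH) _).1 w.2⟩
      map_one' := Subtype.ext (by simp)
      map_mul' := fun a b => Subtype.ext (by simp [mul_assoc]) }
  have hfp : MonoidHom.FixedPointFree φ := by
    intro w hw
    by_contra hne
    exact hfix w w.2 (fun e => hne (Subtype.ext e)) (mul_inv_eq_iff_eq_mul.1 (congrArg Subtype.val hw))
  have hinv : Function.Involutive φ := fun w => Subtype.ext (by
    show t * (t * w * t⁻¹) * t⁻¹ = w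
    rw [hti, show t * (t * (w : Γ) * t) * t = (t * t) * w * (t * t) by group, ht, one_mul, mul_one])
  have hneg := hfp.coe_eq_inv_of_involutive hinv
  have hneg' : ∀ w ∈ W, t * w * t⁻¹ = w⁻¹ := fun w hw => congrArg Subtype.val (congrFun hneg ⟨w, hw⟩)
  obtain ⟨a, ha⟩ : ∃ a : Cfsg.Sz F m, a * D.ψ t ≠ D.ψ t * a := by
    by_contra hno
    push Not at hno
    exact htψ (D.central_eq_one hno)
  obtain ⟨h, hh, rfl⟩ := hH a
  refine D.cov_centralizer hH hn ⟨h * t * h⁻¹ * t, H.mul_mem (H.mul_mem (H.mul_mem hh htH) (H.inv_mem hh)) htH,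
    mem_centralizer_iff.2 fun w hw => ?_, fun e => ha ?_⟩
  · have hw' : h⁻¹ * w⁻¹ * h ∈ W := (mem_normalizer_iff'.1 (hn hh) _).2 (by simpa [mul_assoc] using W.inv_mem hw)
    have e1 := hneg' _ hw'
    have e2 := hneg' w hw
    rw [hti] at e1 e2
    calc w * (h * t * h⁻¹ * t) = h * (t * (t * (h⁻¹ * w * h) * t)) * h⁻¹ * t := by
          rw [show t * (t * (h⁻¹ * w * h) * t) = (t * t) * (h⁻¹ * w * h) * t by group, ht]; group
      _ = h * (t * (h⁻¹ * w⁻¹ * h)) * h⁻¹ * t := by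
          have e3 := congrArg (fun z => z⁻¹) e1
          simp only [mul_inv_rev, hti, inv_inv] at e3
          rw [show t * (h⁻¹ * w * h) * t = h⁻¹ * w⁻¹ * h by
            have h5 := hneg' (h⁻¹ * w * h) ((mem_normalizer_iff'.1 (hn hh) _).2 (by simpa [mul_assoc] using hw))
            rw [hti] at h5
            rw [h5]; group]
      _ = h * t * h⁻¹ * (w⁻¹ * t) := by group
      _ = h * t * h⁻¹ * (t * w) := by
          rw [show w⁻¹ * t = t * w by rw [← e2, mul_assoc, ht, mul_one]]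
      _ = h * t * h⁻¹ * t * w := by group
  · rw [map_mul, map_mul, map_mul, map_inv, mul_eq_one_iff_eq_inv, ← map_inv D.ψ t, hti] at e
    exact mul_inv_eq_iff_eq_mul.1 e

/-- The Frattini argument. -/
theorem cov_sylow_all {H W : Subgroup Γ} (hH : D.Cov H) (hWH : W ≤ H) (hn : H ≤ normalizer (W : Set Γ))
    (hWR : W ≤ D.ψ.ker) {p : ℕ} [Fact p.Prime] (P : Sylow p W) :
    D.Cov (H ⊓ normalizer (((P : Subgroup W).map W.subtype : Subgroup Γ) : Set Γ)) := by
  intro a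
  obtain ⟨h, hh, rfl⟩ := hH a
  let f : W ≃* W :=
    { toFun := fun w => ⟨h * w * h⁻¹, (mem_normalizer_iff.1 (hn hh) _).1 w.2⟩
      invFun := fun w => ⟨h⁻¹ * w * h, (mem_normalizer_iff'.1 (hn hh) _).2 (by simp [mul_assoc])⟩
      left_inv := fun w => Subtype.ext (by simp [mul_assoc])
      right_inv := fun w => Subtype.ext (by simp [mul_assoc])
      map_mul' := fun a b => Subtype.ext (by simp [mul_assoc]) }
  let P' : Sylow p W := P.mapSurjective (f := f.toMonoidHom) f.surjective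
  obtain ⟨w, hw⟩ := MulAction.exists_smul_eq W P' P
  refine ⟨(w : Γ) * h, ⟨H.mul_mem (hWH w.2) hh, ?_⟩, by
    rw [map_mul, MonoidHom.mem_ker.1 (hWR w.2), one_mul]⟩
  show (w : Γ) * h ∈ normalizer _
  rw [mem_normalizer_iff_map_conj_eq]
  have e : ((P : Subgroup W).map W.subtype).map (MulAut.conj ((w : Γ) * h)).toMonoidHom =
      (((P : Subgroup W).map f.toMonoidHom).map (MulAut.conj w).toMonoidHom).map W.subtype := by
    rw [map_map, map_map, map_map]
    congr 1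
    ext z
    simp [f, mul_assoc]
  refine e.trans ?_
  congr 1
  have := congrArg (fun X : Sylow p W => (X : Subgroup W)) hw
  simp only [P', Sylow.coe_subgroup_smul, Subgroup.pointwise_smul_def] at this
  exact this

theorem cov_sylow {H W : Subgroup Γ} (hH : D.Cov H) (hWH : W ≤ H) (hn : H ≤ normalizer (W : Set Γ))
    (hWR : W ≤ D.ψ.ker) (p : ℕ) [Fact p.Prime] :
    ∃ P : Sylow p W, D.Cov (H ⊓ normalizer (((P : Subgroup W).map W.subtype : Subgroup Γ) : Set Γ)) :=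
  (inferInstance : Nonempty (Sylow p W)).elim fun P => ⟨P, D.cov_sylow_all hH hWH hn hWR P⟩

end OneTop

end Cfsg.Lib.SuzSquare
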