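import Mathlib
import Cfsg.Agent.SuzSquare.One.Cover

/-!
Groups of a central class in the kernel are centralised by a covering subgroup.
-/

set_option autoImplicit false
set_option linter.unusedSectionVars false

namespace Cfsg.Lib.SuzSquare

open Subgroup

universe u v

theorem Fp.twist {T : Type*} [Group T] {U P : Subgroup T} {x : T} {c : ℕ} (h : Fp U P x c) (full : Fp P P x c)
    {a : T} (ha : a ∈ P) (hcomm : ∀ u ∈ U, Commute a u) : Fp U P (a * x) c := by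
  refine ⟨h.le, h.cent, fun u hu => ?_, fun i hi hic hmem => ?_, full.coset_pow ha, h.lt⟩
  · have h1 := h.conj u hu
    rw [show a * x * u * (a * x)⁻¹ = a * (x * u * x⁻¹) * a⁻¹ by group, (hcomm _ h1).eq, mul_inv_cancel_right]
    exact h1
  · refine h.out i hi hic ?_
    have h2 := P.mul_mem (P.inv_mem (full.coset ha i)) hmem
    simpa [mul_assoc] using h2

namespace OneTop

variable {m : ℕ} {Γ : Type u} [Group Γ] [Finite Γ] {F : Type v} [Field F] [Fintype F] (D : OneTop m Γ F)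

/-- A lifted Frobenius configuration inside a covering subgroup. -/
structure LFp (H U : Subgroup Γ) (x : Γ) (c s : ℕ) : Prop where
  le : U ≤ H
  mem : x ∈ H
  pgroup : IsPGroup s U
  nontriv : ∃ u ∈ U, D.ψ u ≠ 1
  conj : ∀ u ∈ U, x * u * x⁻¹ ∈ U
  inj : ∀ i, 0 < i → i < c → ∀ u ∈ U, ∀ u' ∈ U, (u * x) ^ i = (u' * x) ^ i → u = u'
  pow : ∀ u ∈ U, (u * x) ^ c = 1
  out : ∀ u ∈ U, ∀ i, 0 < i → i < c → D.ψ ((u * x) ^ i) ≠ 1
  one_lt : 1 < c

theorem lfp_of {H U : Subgroup Γ} {x : Γ} {c s : ℕ} {U₀ P₀ : Subgroup (Cfsg.Sz F m)} (hU : U ≤ H) (hx : x ∈ H)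
    (hs : IsPGroup s U) (hne : ∃ u ∈ U, D.ψ u ≠ 1) (hmap : ∀ u ∈ U, D.ψ u ∈ U₀)
    (hdisj : ∀ u ∈ U, D.ψ u = 1 → u = 1) (hconj : ∀ u ∈ U, x * u * x⁻¹ ∈ U) (hxc : x ^ c = 1)
    (fp : Fp U₀ P₀ (D.ψ x) c) : D.LFp H U x c s := by
  refine ⟨hU, hx, hs, hne, hconj, fun i hi hic u hu u' hu' e => ?_, fun u hu => ?_, fun u hu i hi hic e => ?_, fp.lt⟩
  · have e' := congrArg D.ψ e
    rw [map_pow, map_pow, map_mul, map_mul] at e'
    have h1 := fp.injective hi hic (hmap u hu) (hmap u' hu') e'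
    refine mul_inv_eq_one.1 (hdisj _ (U.mul_mem hu (U.inv_mem hu')) ?_)
    rw [map_mul, map_inv, h1, mul_inv_cancel]
  · refine hdisj _ ?_ (by rw [map_pow, map_mul]; exact fp.coset_pow (hmap u hu))
    have h1 := pow_coset_mem hconj hu c
    rwa [hxc, inv_one, mul_one] at h1
  · rw [map_pow, map_mul] at e
    have h1 := fp.coset (hmap u hu) i
    rw [e, one_mul, inv_mem_iff] at h1
    exact fp.out i hi hic (fp.le h1)

variable {D}

theorem LFp.orderOf_eq {H U : Subgroup Γ} {x : Γ} {c s : ℕ} (L : D.LFp H U x c s) {u : Γ} (hu : u ∈ U) :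
    orderOf (u * x) = c ∧ D.ψ (u * x) ≠ 1 := by
  have h1 : D.ψ (u * x) ≠ 1 := fun e => L.out u hu 1 one_pos L.one_lt (by rwa [pow_one])
  refine ⟨(orderOf_eq_iff (by have := L.one_lt; omega)).2 ⟨L.pow u hu, fun i hic hi e => ?_⟩, h1⟩
  exact L.out u hu i hi hic (by rw [e, map_one])

theorem LFp.coprime {H U : Subgroup Γ} {x : Γ} {c s : ℕ} (L : D.LFp H U x c s) [Fact s.Prime]
    {W : Subgroup Γ} (hW : ¬ s ∣ Nat.card W) : (Nat.card W).Coprime (Nat.card U) := by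
  obtain ⟨n, hn⟩ := IsPGroup.iff_card.1 L.pgroup
  rw [hn]
  exact ((Fact.out : s.Prime).coprime_iff_not_dvd.2 hW).symm.pow_right n

variable (D)

/-- A solvable group of the class of the complements is centralised. -/
theorem central_of_lfp {H U W : Subgroup Γ} {x : Γ} {i : Fin 4} {s : ℕ} [Fact s.Prime]
    (L : D.LFp H U x (tor m i) s) (hH : D.Cov H) (hn : H ≤ normalizer (W : Set Γ))
    (hsol : Group.IsSolvable W) (hW : ∀ p : ℕ, p.Prime → p ∣ Nat.card W → p ∣ tor m i) (hs : ¬ s ∣ tor m i) :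
    D.Cov (H ⊓ centralizer (W : Set Γ)) := by
  obtain ⟨u, hu, hu1⟩ := L.nontriv
  refine D.cov_centralizer hH hn ⟨u, L.le hu, mem_centralizer_iff.2 fun w hw => ?_, hu1⟩
  have hcop := L.coprime (W := W) fun h => hs (hW s Fact.out h)
  refine ((centralizes U x (by have := L.one_lt; omega) L.conj L.inj W hsol hcop (fun y hy => hn (L.le hy))
    (hn L.mem) (fun a ha b hb => ?_)) u hu w hw).eq.symm
  rw [L.pow a ha]
  refine D.S.norm_one hW (hn (H.mul_mem (L.le ha) L.mem)) ?_ hb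
  rw [(L.orderOf_eq ha).1]

/-- A covering subgroup contains a minimal one. -/
theorem exists_minimal_cov {H : Subgroup Γ} (hH : D.Cov H) :
    ∃ L ≤ H, D.Cov L ∧ ∀ L' ≤ L, D.Cov L' → L ≤ L' := by
  obtain ⟨L, ⟨hLH, hL⟩, hmin⟩ :=
    (Set.toFinite {L : Subgroup Γ | L ≤ H ∧ D.Cov L}).exists_minimal ⟨H, le_rfl, hH⟩
  exact ⟨L, hLH, hL, fun L' hle h => hmin ⟨hle.trans hLH, h⟩ hle⟩

/-- The lifted torus configuration. -/
theorem exists_lfp_torus {H : Subgroup Γ} (hH : D.Cov H) :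
    ∃ (U : Subgroup Γ) (x : Γ) (s : ℕ), s.Prime ∧ ¬ s ∣ tor m 0 ∧ D.LFp H U x (tor m 0) s := by
  classical
  obtain ⟨L, hLH, hL, hmin⟩ := D.exists_minimal_cov hH
  set N := L ⊓ D.ψ.ker with hN
  have hNn : L ≤ normalizer (N : Set Γ) := by
    intro l hl
    rw [mem_normalizer_iff]
    intro a
    refine ⟨fun ha => ⟨L.mul_mem (L.mul_mem hl ha.1) (L.inv_mem hl), ?_⟩, fun ha => ?_⟩
    · exact (inferInstance : D.ψ.ker.Normal).conj_mem _ ha.2 l
    · have h1 := L.mul_mem (L.mul_mem (L.inv_mem hl) ha.1) hl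
      have h2 := (inferInstance : D.ψ.ker.Normal).conj_mem _ ha.2 l⁻¹
      refine ⟨by simpa [mul_assoc] using h1, by simpa [mul_assoc] using h2⟩
  have hnot : ∃ i : Fin 4, (i = 2 ∨ i = 3) ∧ ∀ p : ℕ, p.Prime → p ∣ tor m i → ¬ p ∣ Nat.card N := by
    by_contra hno
    push Not at hno
    obtain ⟨p, hp, hp2, hpN⟩ := hno 2 (Or.inl rfl)
    obtain ⟨q, hq, hq3, hqN⟩ := hno 3 (Or.inr rfl)
    obtain ⟨t, htL, ht2, htψ, hto⟩ := D.exists_involution hL
    have key : ∀ r : ℕ, r.Prime → r ∣ Nat.card N → r ≠ 2 → ∃ P : Subgroup Γ, P ≤ N ∧ IsPGroup r P ∧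
        L ≤ normalizer (P : Set Γ) ∧ ∃ w ∈ P, orderOf w = r ∧ Commute t w := by
      intro r hr hrN hr2
      haveI := Fact.mk hr
      obtain ⟨P, hP⟩ := D.cov_sylow hL inf_le_left hNn inf_le_right r
      set P' : Subgroup Γ := (P : Subgroup N).map N.subtype with hP'
      have hnor : L ≤ normalizer (P' : Set Γ) := fun l hl => (hmin _ inf_le_left hP hl).2
      have hpg : IsPGroup r P' := P.isPGroup'.map N.subtype
      have hne : P' ≠ ⊥ := fun e => by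
        have h1 : (P : Subgroup N) = ⊥ := (map_eq_bot_iff_of_injective _ N.subtype_injective).1 e
        exact P.ne_bot_of_dvd_card hrN h1
      obtain ⟨k, hk⟩ := IsPGroup.iff_card.1 hpg
      have hodd : Odd (Nat.card P') := hk ▸ (hr.odd_of_ne_two hr2).pow
      have hfix : ∃ w ∈ P', w ≠ 1 ∧ Commute t w := by
        rcases D.fix_involution hL hnor hodd htL ht2 htψ with h | h
        · exact h
        · obtain ⟨w, hw, hw1⟩ := (P'.bot_or_exists_ne_one).resolve_left hne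
          exact ⟨w, hw, hw1, ((mem_centralizer_iff.1 (hmin _ inf_le_left h htL).2 w hw)).symm⟩
      obtain ⟨w, hw, hw1, hc⟩ := hfix
      obtain ⟨j, hj⟩ := IsPGroup.iff_orderOf.1 hpg ⟨w, hw⟩
      rw [Subgroup.orderOf_mk] at hj
      have hj0 : j ≠ 0 := fun e => hw1 (orderOf_eq_one_iff.1 (by rw [hj, e, pow_zero]))
      refine ⟨P', map_subtype_le _, hpg, hnor, w ^ (orderOf w / r), pow_mem hw _, ?_, hc.pow_right _⟩
      exact orderOf_pow_orderOf_div (orderOf_pos w).ne' (hj ▸ dvd_pow_self r hj0)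
    have hp20 : p ≠ 2 := fun e => absurd (two_class D.S.hm (e ▸ hp2)) (by decide)
    have hq20 : q ≠ 2 := fun e => absurd (two_class D.S.hm (e ▸ hq3)) (by decide)
    obtain ⟨P, hPN, hPp, hPn, x, hx, hxo, htx⟩ := key p hp hpN hp20
    obtain ⟨Q', hQN, hQp, hQn, y, hy, hyo, hty⟩ := key q hq hqN hq20
    have hpq : p ≠ q := fun e => absurd (class_unique D.S.hm hp hp2 (e ▸ hq3)) (by decide)
    have hxy : Commute x y := by
      have h1 : x * y * x⁻¹ * y⁻¹ ∈ P := by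
        rw [show x * y * x⁻¹ * y⁻¹ = x * (y * x⁻¹ * y⁻¹) by group]
        exact P.mul_mem hx ((mem_normalizer_iff.1 (hPn (hQN hy).1) _).1 (P.inv_mem hx))
      have h2 : x * y * x⁻¹ * y⁻¹ ∈ Q' :=
        Q'.mul_mem ((mem_normalizer_iff.1 (hQn (hPN hx).1) _).1 hy) (Q'.inv_mem hy)
      haveI := Fact.mk hp
      haveI := Fact.mk hq
      have h3 : x * y * x⁻¹ * y⁻¹ = 1 := by
        have := IsPGroup.disjoint_of_ne p q hpq P Q' hPp hQp
        exact (disjoint_def.1 this) h1 h2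
      rw [mul_inv_eq_one, mul_inv_eq_iff_eq_mul] at h3
      exact h3
    exact D.S.triple_commute Nat.prime_two hp hq (i := 0) (j := 2) (l := 3) (by decide : 2 ∣ 4) hp2 hq3
      (by decide) (by decide) (by decide) (hto ▸ dvd_rfl) (hxo ▸ dvd_rfl) (hyo ▸ dvd_rfl) htx hty hxy
      (orderOf_pos t) (orderOf_pos x) (orderOf_pos y)
  obtain ⟨i, hi, hiN⟩ := hnot
  obtain ⟨U₀, u₀, x₀, hU₀, hu₀, hx₀, fp⟩ := fp_torus D.Q hi
  set s := (tor m i).minFac
  have hsp : s.Prime := Nat.minFac_prime (tor_gt_one D.S.hm i).ne'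
  haveI := Fact.mk hsp
  have hsi : s ∣ tor m i := Nat.minFac_dvd _
  have hi0 : i ≠ 0 := by rcases hi with rfl | rfl <;> decide
  have hs0 : ¬ s ∣ tor m 0 := fun h => hi0 (class_unique D.S.hm hsp hsi h)
  set Lu := L ⊓ U₀.comap D.ψ with hLu
  obtain ⟨S⟩ := (inferInstance : Nonempty (Sylow s Lu))
  set U : Subgroup Γ := (S : Subgroup Lu).map Lu.subtype with hU
  have hUle : U ≤ Lu := map_subtype_le _
  have hUp : IsPGroup s U := S.isPGroup'.map Lu.subtype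
  have hdisj : ∀ u ∈ U, D.ψ u = 1 → u = 1 := by
    intro u hu e
    obtain ⟨j, hj⟩ := IsPGroup.iff_orderOf.1 hUp ⟨u, hu⟩
    rw [Subgroup.orderOf_mk] at hj
    rcases Nat.eq_zero_or_pos j with rfl | hj0
    · exact orderOf_eq_one_iff.1 (by rw [hj, pow_zero])
    · exfalso
      refine hiN s hsp hsi ((hj ▸ dvd_pow_self s hj0.ne').trans ?_)
      exact Subgroup.orderOf_dvd_natCard N ⟨(hUle hu).1, MonoidHom.mem_ker.2 e⟩
  have hne : ∃ u ∈ U, D.ψ u ≠ 1 := by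
    obtain ⟨g, hg, ge, go⟩ := D.lift hL hu₀
    have hgLu : g ∈ Lu := ⟨hg, show D.ψ g ∈ U₀ from ge ▸ hU₀ ▸ mem_zpowers u₀⟩
    have hne' : U ≠ ⊥ := fun e => by
      have h1 : (S : Subgroup Lu) = ⊥ := (map_eq_bot_iff_of_injective _ Lu.subtype_injective).1 e
      exact S.ne_bot_of_dvd_card (hsi.trans (go ▸ Subgroup.orderOf_dvd_natCard Lu hgLu)) h1
    obtain ⟨u, hu, hu1⟩ := (U.bot_or_exists_ne_one).resolve_left hne'
    exact ⟨u, hu, fun e => hu1 (hdisj u hu e)⟩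
  -- the element of order four
  obtain ⟨h, hh, he⟩ := hL x₀
  have hnorm : ∀ l ∈ L, (∀ a, a ∈ U₀ ↔ D.ψ l * a * (D.ψ l)⁻¹ ∈ U₀) → ∀ a, a ∈ Lu ↔ l * a * l⁻¹ ∈ Lu := by
    intro l hl hla a
    constructor
    · rintro ⟨ha1, ha2⟩
      exact ⟨L.mul_mem (L.mul_mem hl ha1) (L.inv_mem hl), show D.ψ (l * a * l⁻¹) ∈ U₀ by
        rw [map_mul, map_mul, map_inv]; exact (hla _).1 ha2⟩
    · rintro ⟨ha1, ha2⟩
      refine ⟨by simpa [mul_assoc] using L.mul_mem (L.mul_mem (L.inv_mem hl) ha1) hl, (hla _).2 ?_⟩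
      change D.ψ (l * a * l⁻¹) ∈ U₀ at ha2
      rwa [map_mul, map_mul, map_inv] at ha2
  have hx₀n : x₀ ∈ normalizer (U₀ : Set (Cfsg.Sz F m)) :=
    mem_normalizer_fintype fun a ha => fp.conj a ha
  have hhn : h ∈ normalizer (Lu : Set Γ) :=
    mem_normalizer_iff.2 (hnorm h hh fun a => he ▸ mem_normalizer_iff.1 hx₀n a)
  let f : Lu ≃* Lu :=
    { toFun := fun w => ⟨h * w * h⁻¹, (mem_normalizer_iff.1 hhn _).1 w.2⟩
      invFun := fun w => ⟨h⁻¹ * w * h, (mem_normalizer_iff'.1 hhn _).2 (by simp [mul_assoc])⟩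
      left_inv := fun w => Subtype.ext (by simp [mul_assoc])
      right_inv := fun w => Subtype.ext (by simp [mul_assoc])
      map_mul' := fun a b => Subtype.ext (by simp [mul_assoc]) }
  obtain ⟨w, hw⟩ := MulAction.exists_smul_eq Lu (S.mapSurjective (f := f.toMonoidHom) f.surjective) S
  have hx1n : (w : Γ) * h ∈ normalizer (U : Set Γ) := by
    show (w : Γ) * h ∈ normalizer _
    rw [mem_normalizer_iff_map_conj_eq]
    have e : ((S : Subgroup Lu).map Lu.subtype).map (MulAut.conj ((w : Γ) * h)).toMonoidHom =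
        (((S : Subgroup Lu).map f.toMonoidHom).map (MulAut.conj w).toMonoidHom).map Lu.subtype := by
      rw [map_map, map_map, map_map]
      congr 1
      ext z
      simp [f, mul_assoc]
    refine e.trans ?_
    congr 1
    have := congrArg (fun X : Sylow s Lu => (X : Subgroup Lu)) hw
    simp only [Sylow.coe_subgroup_smul, Subgroup.pointwise_smul_def] at this
    exact this
  have hwU : D.ψ w ∈ U₀ := w.2.2
  have hfp : Fp U₀ U₀ (D.ψ w * x₀) 4 := fp.twist fp hwU fun u hu => by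
    obtain ⟨k1, hk1⟩ := mem_zpowers_iff.1 (hU₀ ▸ hwU)
    obtain ⟨k2, hk2⟩ := mem_zpowers_iff.1 (hU₀ ▸ hu)
    rw [← hk1, ← hk2]
    exact Commute.zpow_zpow (Commute.refl u₀) k1 k2
  have hψ1 : D.ψ ((w : Γ) * h) = D.ψ w * x₀ := by rw [map_mul, he]
  have ho4 : orderOf (D.ψ ((w : Γ) * h)) = tor m 0 := by
    rw [hψ1]
    exact (orderOf_eq_iff (by decide : 0 < 4)).2 ⟨hfp.pow, fun j hj hj0 e => hfp.out j hj0 hj (e ▸ one_mem _)⟩
  obtain ⟨x, hxz, hxψ, hxo⟩ := D.S.exact_lift D.ψ ho4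
  have hxL : x ∈ L := zpowers_le.2 (L.mul_mem w.2.1 hh) hxz
  have hxn : x ∈ normalizer (U : Set Γ) := zpowers_le.2 hx1n hxz
  refine ⟨U, x, s, hsp, hs0, D.lfp_of (U₀ := U₀) (P₀ := U₀) (fun u hu => hLH (hUle hu).1) (hLH hxL) hUp hne (fun u hu => (hUle hu).2)
    hdisj (fun u hu => (mem_normalizer_iff.1 hxn u).1 hu) (hxo ▸ pow_orderOf_eq_one x) ?_⟩
  rw [hxψ, hψ1]
  exact hfp

/-- Two-groups in the kernel are centralised. -/
theorem two_central {H W : Subgroup Γ} (hH : D.Cov H) (hn : H ≤ normalizer (W : Set Γ)) (hW : IsPGroup 2 W) :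
    D.Cov (H ⊓ centralizer (W : Set Γ)) := by
  haveI : Fact (Nat.Prime 2) := ⟨Nat.prime_two⟩
  obtain ⟨U, x, s, hs, hs0, L⟩ := D.exists_lfp_torus hH
  haveI := Fact.mk hs
  refine D.central_of_lfp L hH hn ?_ (fun p hp hd => ?_) hs0
  · haveI := hW.isNilpotent
    infer_instance
  · obtain ⟨n, hn'⟩ := IsPGroup.iff_card.1 hW
    rw [(Nat.prime_dvd_prime_iff_eq hp Nat.prime_two).1 (hp.dvd_of_dvd_pow (hn' ▸ hd))]
    exact (by decide : 2 ∣ 4)

/-- The lifted configuration of the torus acting on the centre of a Sylow two-subgroup. -/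
theorem exists_lfp_borel {H : Subgroup Γ} (hH : D.Cov H) :
    ∃ (U : Subgroup Γ) (x : Γ), D.LFp H U x (tor m 1) 2 := by
  classical
  haveI : Fact (Nat.Prime 2) := ⟨Nat.prime_two⟩
  set R := H ⊓ D.ψ.ker
  have hRn : H ≤ normalizer (R : Set Γ) := by
    intro l hl
    rw [mem_normalizer_iff]
    intro a
    refine ⟨fun ha => ⟨H.mul_mem (H.mul_mem hl ha.1) (H.inv_mem hl), ?_⟩, fun ha => ?_⟩
    · exact (inferInstance : D.ψ.ker.Normal).conj_mem _ ha.2 l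
    · have h1 := H.mul_mem (H.mul_mem (H.inv_mem hl) ha.1) hl
      have h2 := (inferInstance : D.ψ.ker.Normal).conj_mem _ ha.2 l⁻¹
      refine ⟨by simpa [mul_assoc] using h1, by simpa [mul_assoc] using h2⟩
  obtain ⟨S, hS⟩ := D.cov_sylow hH inf_le_left hRn inf_le_right 2
  set S₂ : Subgroup Γ := (S : Subgroup R).map R.subtype with hS₂
  have hS₂p : IsPGroup 2 S₂ := S.isPGroup'.map R.subtype
  set H₂ := H ⊓ normalizer (S₂ : Set Γ) ⊓ centralizer (S₂ : Set Γ) with hH₂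
  have hH₂c : D.Cov H₂ := D.two_central hS inf_le_right hS₂p
  -- two-elements of the kernel are central
  have hcen : ∀ X : Subgroup Γ, X ≤ H₂ → X ≤ D.ψ.ker → IsPGroup 2 X → X ≤ S₂ := by
    intro X hX hXR hXp
    have hXle : X ≤ R := le_inf (hX.trans (inf_le_left.trans inf_le_left)) hXR
    have hS₂le : S₂ ≤ R := map_subtype_le _
    have hsup : IsPGroup 2 ↥(X ⊔ S₂) :=
      hXp.to_sup_of_normal_right' hS₂p (hX.trans (inf_le_left.trans inf_le_right))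
    have h1 : IsPGroup 2 ↥((X ⊔ S₂).subgroupOf R) := hsup.comap_of_injective R.subtype R.subtype_injective
    have h2 : (S : Subgroup R) ≤ (X ⊔ S₂).subgroupOf R := fun z hz =>
      (show (z : Γ) ∈ X ⊔ S₂ from (le_sup_right : S₂ ≤ X ⊔ S₂) (mem_map_of_mem R.subtype hz))
    have h3 := S.is_maximal' h1 h2
    intro z hz
    have : (⟨z, hXle hz⟩ : R) ∈ (X ⊔ S₂).subgroupOf R := (le_sup_left : X ≤ X ⊔ S₂) hz
    rw [h3] at this
    exact ⟨_, this, rfl⟩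
  -- the preimage of the Sylow subgroup
  set B := H₂ ⊓ (Cfsg.Lib.Suz.uSub D.Q).comap D.ψ with hB
  obtain ⟨P'⟩ := (inferInstance : Nonempty (Sylow 2 B))
  set P : Subgroup Γ := (P' : Subgroup B).map B.subtype with hP
  have hPle : P ≤ B := map_subtype_le _
  have hPp : IsPGroup 2 P := P'.isPGroup'.map B.subtype
  -- the Sylow subgroup maps onto `uSub`
  let φ : B →* Cfsg.Lib.Suz.uSub D.Q :=
    { toFun := fun b => ⟨D.ψ b, b.2.2⟩
      map_one' := Subtype.ext (map_one D.ψ)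
      map_mul' := fun a b => Subtype.ext (map_mul D.ψ _ _) }
  have hφ : Function.Surjective φ := fun a => by
    obtain ⟨g, hg, e⟩ := hH₂c (a : Cfsg.Sz F m)
    exact ⟨⟨g, hg, show D.ψ g ∈ _ from e.symm ▸ a.2⟩, Subtype.ext e⟩
  have honto : ∀ a ∈ Cfsg.Lib.Suz.uSub D.Q, ∃ y ∈ P, D.ψ y = a := by
    intro a ha
    have hu := Cfsg.Lib.Suz.isPGroup_uSub D.Q
    have htop : ((P'.mapSurjective hφ : Sylow 2 (Cfsg.Lib.Suz.uSub D.Q)) : Subgroup (Cfsg.Lib.Suz.uSub D.Q)) = ⊤ :=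
      (P'.mapSurjective hφ).3 (hu.to_subgroup ⊤) le_top |>.symm
    have : (⟨a, ha⟩ : Cfsg.Lib.Suz.uSub D.Q) ∈ (P' : Subgroup B).map φ := by
      rw [Sylow.coe_mapSurjective] at htop
      rw [htop]; exact mem_top _
    obtain ⟨y, hy, e⟩ := this
    exact ⟨y, mem_map_of_mem B.subtype hy, congrArg Subtype.val e⟩
  -- the torus element normalising `P`
  obtain ⟨h₀, ho₀, fp⟩ := fp_zSub D.Q
  obtain ⟨h₀', ho₀', full'⟩ := fp_full D.Q
  obtain ⟨l, hl⟩ := exists_generator D.Q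
  have hgen : ∀ {U : Subgroup (Cfsg.Sz F m)} (hU : U ≤ Cfsg.Lib.Suz.uSub D.Q),
      (∀ a ∈ U, Cfsg.Lib.Suz.hI D.Q l * a * (Cfsg.Lib.Suz.hI D.Q l)⁻¹ ∈ U) →
      Fp U (Cfsg.Lib.Suz.uSub D.Q) (Cfsg.Lib.Suz.hI D.Q l) (tor m 1) := by
    intro U hU hinv
    have ho : orderOf (Cfsg.Lib.Suz.hI D.Q l) = tor m 1 := by
      rw [← hl]; exact orderOf_injective (Cfsg.Lib.Suz.hHom D.Q) (Cfsg.Lib.Suz.hHom_injective D.Q) l
    refine ⟨hU, fun a ha h1 y hy => Cfsg.Lib.Suz.cent_uu D.Q (hU ha) h1 hy, hinv, fun i hi hic hmem => ?_,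
      ho ▸ pow_orderOf_eq_one _, tor_gt_one D.S.hm 1⟩
    have := Nat.le_of_dvd hi (hl ▸ orderOf_dvd_of_pow_eq_one (hI_pow_mem D.Q hmem))
    omega
  have fpZ := hgen (zSub_le D.Q) fun a ha => hI_conj_zSub D.Q l ha
  have fpP := hgen le_rfl fun a ha => hI_conj_uSub D.Q l ha
  obtain ⟨h, hh, he⟩ := hH₂c (Cfsg.Lib.Suz.hI D.Q l)
  have hhn : h ∈ normalizer (B : Set Γ) := by
    refine mem_normalizer_fintype fun a ha => ?_
    refine ⟨H₂.mul_mem (H₂.mul_mem hh ha.1) (H₂.inv_mem hh), ?_⟩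
    show D.ψ (h * a * h⁻¹) ∈ Cfsg.Lib.Suz.uSub D.Q
    rw [map_mul, map_mul, map_inv, he]
    exact hI_conj_uSub D.Q l ha.2
  let f : B ≃* B :=
    { toFun := fun w => ⟨h * w * h⁻¹, (mem_normalizer_iff.1 hhn _).1 w.2⟩
      invFun := fun w => ⟨h⁻¹ * w * h, (mem_normalizer_iff'.1 hhn _).2 (by simp [mul_assoc])⟩
      left_inv := fun w => Subtype.ext (by simp [mul_assoc])
      right_inv := fun w => Subtype.ext (by simp [mul_assoc])
      map_mul' := fun a b => Subtype.ext (by simp [mul_assoc]) }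
  obtain ⟨w, hw⟩ := MulAction.exists_smul_eq B (P'.mapSurjective (f := f.toMonoidHom) f.surjective) P'
  have hx1n : (w : Γ) * h ∈ normalizer (P : Set Γ) := by
    show (w : Γ) * h ∈ normalizer _
    rw [mem_normalizer_iff_map_conj_eq]
    have e : ((P' : Subgroup B).map B.subtype).map (MulAut.conj ((w : Γ) * h)).toMonoidHom =
        (((P' : Subgroup B).map f.toMonoidHom).map (MulAut.conj w).toMonoidHom).map B.subtype := by
      rw [map_map, map_map, map_map]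
      congr 1
      ext z
      simp [f, mul_assoc]
    refine e.trans ?_
    congr 1
    have := congrArg (fun X : Sylow 2 B => (X : Subgroup B)) hw
    simp only [Sylow.coe_subgroup_smul, Subgroup.pointwise_smul_def] at this
    exact this
  have hfpZ : Fp (zSub D.Q) (Cfsg.Lib.Suz.uSub D.Q) (D.ψ w * Cfsg.Lib.Suz.hI D.Q l) (tor m 1) :=
    fpZ.twist fpP w.2.2 fun u hu => (zSub_comm D.Q hu w.2.2).symm
  have hψ1 : D.ψ ((w : Γ) * h) = D.ψ w * Cfsg.Lib.Suz.hI D.Q l := by rw [map_mul, he]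
  have hoc : orderOf (D.ψ ((w : Γ) * h)) = tor m 1 := by
    rw [hψ1]
    exact (orderOf_eq_iff (Nat.zero_lt_of_lt (tor_gt_one D.S.hm 1))).2
      ⟨hfpZ.pow, fun j hj hj0 e => hfpZ.out j hj0 hj (e ▸ one_mem _)⟩
  obtain ⟨x, hxz, hxψ, hxo⟩ := D.S.exact_lift D.ψ hoc
  have hxH : x ∈ H₂ := zpowers_le.2 (H₂.mul_mem w.2.1 hh) hxz
  have hxn : x ∈ normalizer (P : Set Γ) := zpowers_le.2 hx1n hxz
  -- the involutions over the centre
  have hPH : P ≤ H₂ := fun g hg => (hPle hg).1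
  have hS₂cen : ∀ g ∈ H₂, ∀ z ∈ S₂, Commute g z := fun g hg z hz => (mem_centralizer_iff.1 hg.2 z hz).symm
  have hN₂ : ∀ g ∈ P, D.ψ g = 1 → g ∈ S₂ := fun g hg e =>
    hcen (P ⊓ D.ψ.ker) (inf_le_left.trans hPH) inf_le_right (hPp.to_le inf_le_left) ⟨hg, MonoidHom.mem_ker.2 e⟩
  have hcomm : ∀ g ∈ P, g * g = 1 → D.ψ g ∈ zSub D.Q → ∀ g' ∈ P, D.ψ g' ∈ zSub D.Q → Commute g g' := by
    intro g hg hg2 hgz g' hg' hgz'
    obtain ⟨y₀, hy₀, hy2⟩ := zSub_square D.Q hgz'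
    obtain ⟨y, hy, rfl⟩ := honto y₀ hy₀
    have hn1 : (y ^ 2)⁻¹ * g' ∈ S₂ := hN₂ _ (P.mul_mem (P.inv_mem (P.pow_mem hy 2)) hg') (by
      rw [map_mul, map_inv, map_pow, hy2, inv_mul_cancel])
    have hz : y * g * y⁻¹ * g⁻¹ ∈ S₂ := hN₂ _ (P.mul_mem (P.mul_mem (P.mul_mem hy hg) (P.inv_mem hy)) (P.inv_mem hg))
      (by rw [map_mul, map_mul, map_mul, map_inv, map_inv, (zSub_comm D.Q hgz hy₀).symm.eq, mul_inv_cancel_right,
        mul_inv_cancel])
    set z := y * g * y⁻¹ * g⁻¹ with hzdef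
    have e1 : y * g * y⁻¹ = z * g := by rw [hzdef]; group
    have cg : Commute g z := hS₂cen g (hPH hg) z hz
    have cy : Commute y z := hS₂cen y (hPH hy) z hz
    have e2 : z * z = 1 := by
      have h1 : (y * g * y⁻¹) * (y * g * y⁻¹) = 1 := by
        rw [show (y * g * y⁻¹) * (y * g * y⁻¹) = y * (g * g) * y⁻¹ by group, hg2, mul_one, mul_inv_cancel]
      rw [e1, mul_assoc, ← mul_assoc g, cg.eq, mul_assoc z g g, hg2, mul_one] at h1
      exact h1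
    have c2 : Commute g (y ^ 2) := by
      have h1 : y ^ 2 * g * (y ^ 2)⁻¹ = g := by
        calc y ^ 2 * g * (y ^ 2)⁻¹ = y * (y * g * y⁻¹) * y⁻¹ := by rw [pow_two]; group
          _ = z * (y * g * y⁻¹) := by rw [e1, ← mul_assoc, cy.eq, mul_assoc z, mul_assoc z, e1]
          _ = g := by rw [e1, ← mul_assoc, e2, one_mul]
      exact (mul_inv_eq_iff_eq_mul.1 h1).symm
    have c3 : Commute g ((y ^ 2)⁻¹ * g') := hS₂cen g (hPH hg) _ hn1
    simpa using c2.mul_right c3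
  let I : Subgroup Γ :=
    { carrier := {g | g ∈ P ∧ g * g = 1 ∧ D.ψ g ∈ zSub D.Q}
      one_mem' := ⟨P.one_mem, one_mul 1, by rw [map_one]; exact one_mem _⟩
      mul_mem' := fun {a b} ha hb => ⟨P.mul_mem ha.1 hb.1, by
        have c := hcomm a ha.1 ha.2.1 ha.2.2 b hb.1 hb.2.2
        rw [mul_assoc, ← mul_assoc b, ← c.eq, mul_assoc a b b, hb.2.1, mul_one, ha.2.1],
        by rw [map_mul]; exact (zSub D.Q).mul_mem ha.2.2 hb.2.2⟩
      inv_mem' := fun {a} ha => ⟨P.inv_mem ha.1, by rw [← mul_inv_rev, ha.2.1, inv_one],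
        by rw [map_inv]; exact (zSub D.Q).inv_mem ha.2.2⟩ }
  have hxI : ∀ g ∈ I, x * g * x⁻¹ ∈ I := fun g hg => by
    refine ⟨(mem_normalizer_iff.1 hxn g).1 hg.1, ?_, ?_⟩
    · rw [show x * g * x⁻¹ * (x * g * x⁻¹) = x * (g * g) * x⁻¹ by group, hg.2.1, mul_one, mul_inv_cancel]
    · rw [map_mul, map_mul, map_inv, hxψ, hψ1]
      exact hfpZ.conj _ hg.2.2
  have hIcomm : ∀ g ∈ I, ∀ g' ∈ I, Commute g g' := fun g hg g' hg' => hcomm g hg.1 hg.2.1 hg.2.2 g' hg'.1 hg'.2.2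
  let U : Subgroup Γ :=
    { carrier := {u | ∃ g ∈ I, u = x * g * x⁻¹ * g⁻¹}
      one_mem' := ⟨1, I.one_mem, by simp⟩
      mul_mem' := fun {a b} ⟨g, hg, ea⟩ ⟨g', hg', eb⟩ => ⟨g * g', I.mul_mem hg hg', by
        have c1 : Commute g⁻¹ (x * g' * x⁻¹ * g'⁻¹) :=
          hIcomm _ (I.inv_mem hg) _ (I.mul_mem (hxI g' hg') (I.inv_mem hg'))
        rw [ea, eb, mul_assoc (x * g * x⁻¹), c1.eq]
        group⟩
      inv_mem' := fun {a} ⟨g, hg, ea⟩ => ⟨g⁻¹, I.inv_mem hg, by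
        have c1 : Commute g (x * g⁻¹ * x⁻¹) := hIcomm _ hg _ (hxI _ (I.inv_mem hg))
        rw [ea, inv_inv, ← c1.eq]
        group⟩ }
  have hUI : U ≤ I := fun a ⟨g, hg, e⟩ => e ▸ I.mul_mem (hxI g hg) (I.inv_mem hg)
  have hPH' : ∀ g ∈ I, g ∈ H₂ := fun g hg => hPH hg.1
  have hdisj : ∀ u ∈ U, D.ψ u = 1 → u = 1 := by
    rintro u ⟨g, hg, rfl⟩ e
    rw [map_mul, map_mul, map_mul, map_inv, map_inv, mul_inv_eq_one, mul_inv_eq_iff_eq_mul, hxψ, hψ1] at e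
    by_cases hg1 : D.ψ g = 1
    · rw [(hS₂cen x hxH g (hN₂ g hg.1 hg1)).eq, mul_inv_cancel_right, mul_inv_cancel]
    · exfalso
      have hmem := hfpZ.cent _ hg.2.2 hg1 _ e
      exact hfpZ.out 1 one_pos hfpZ.lt (by rwa [pow_one])
  have hne : ∃ u ∈ U, D.ψ u ≠ 1 := by
    obtain ⟨a, ha, ha1⟩ := zSub_nontrivial D.Q
    obtain ⟨y₀, hy₀, hy2⟩ := zSub_square D.Q ha
    obtain ⟨y, hy, rfl⟩ := honto y₀ hy₀
    have h4 : (y ^ 2) * (y ^ 2) = 1 := by
      obtain ⟨n, hn⟩ := IsPGroup.iff_orderOf.1 hPp ⟨y, hy⟩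
      rw [Subgroup.orderOf_mk] at hn
      have hd : orderOf y ∣ tor m 0 := D.S.class_part (orderOf_pos y).ne' dvd_rfl fun p hp hpd => by
        rw [(Nat.prime_dvd_prime_iff_eq hp Nat.prime_two).1 (hp.dvd_of_dvd_pow (hn ▸ hpd))]
        exact (by decide : 2 ∣ 4)
      rw [← pow_add]
      exact orderOf_dvd_iff_pow_eq_one.1 hd
    have hg : y ^ 2 ∈ I := ⟨P.pow_mem hy 2, h4, by rw [map_pow, hy2]; exact ha⟩
    refine ⟨_, ⟨y ^ 2, hg, rfl⟩, fun e => ?_⟩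
    rw [map_mul, map_mul, map_mul, map_inv, map_inv, mul_inv_eq_one, mul_inv_eq_iff_eq_mul, map_pow, hy2, hxψ,
      hψ1] at e
    exact hfpZ.out 1 one_pos hfpZ.lt (by rw [pow_one]; exact hfpZ.cent _ ha ha1 _ e)
  refine ⟨U, x, D.lfp_of (fun u hu => (hPH' u (hUI hu)).1.1) hxH.1.1 (hPp.to_le fun u hu => (hUI hu).1) hne
    (fun u hu => (hUI hu).2.2) hdisj (fun u hu => ?_) (hxo ▸ pow_orderOf_eq_one x) (by rw [hxψ, hψ1]; exact hfpZ)⟩
  obtain ⟨g, hg, rfl⟩ := hu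
  exact ⟨x * g * x⁻¹, hxI g hg, by group⟩

/-- Groups of the class of `q - 1` in the kernel are centralised. -/
theorem one_central {H W : Subgroup Γ} (hH : D.Cov H) (hn : H ≤ normalizer (W : Set Γ))
    (hsol : Group.IsSolvable W) (hW : ∀ p : ℕ, p.Prime → p ∣ Nat.card W → p ∣ tor m 1) :
    D.Cov (H ⊓ centralizer (W : Set Γ)) := by
  haveI : Fact (Nat.Prime 2) := ⟨Nat.prime_two⟩
  obtain ⟨U, x, L⟩ := D.exists_lfp_borel hH
  exact D.central_of_lfp L hH hn hsol hW fun h => absurd (two_class D.S.hm h) (by decide)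

/-- An element of the order `q - 1` fixes an element of a normalised group of odd prime power order. -/
theorem fix_one {H W : Subgroup Γ} (hH : D.Cov H) (hn : H ≤ normalizer (W : Set Γ)) {r : ℕ} [Fact r.Prime]
    (hr : r ≠ 2) (hW : IsPGroup r W) (hne : W ≠ ⊥) :
    ∃ y ∈ H, orderOf y = tor m 1 ∧ ∃ w ∈ W, w ≠ 1 ∧ Commute y w := by
  haveI : Fact (Nat.Prime 2) := ⟨Nat.prime_two⟩
  obtain ⟨U, x, L⟩ := D.exists_lfp_borel hH
  set Z := W ⊓ centralizer (W : Set Γ) with hZ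
  have hZab : ∀ a ∈ Z, ∀ b ∈ Z, Commute a b := fun a ha b hb => mem_centralizer_iff.1 hb.2 a ha.1
  obtain ⟨z₀, hz₀, hz₀1⟩ : ∃ z ∈ Z, z ≠ 1 := by
    haveI : Nontrivial W := (nontrivial_iff_ne_bot W).2 hne
    haveI := hW.center_nontrivial
    obtain ⟨⟨⟨z, hzW⟩, hz⟩, hz1⟩ := exists_ne (1 : center W)
    refine ⟨z, ⟨hzW, mem_centralizer_iff.2 fun w hw => congrArg Subtype.val (mem_center_iff.1 hz ⟨w, hw⟩)⟩,
      fun e => hz1 (Subtype.ext (Subtype.ext e))⟩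
  have hnZ : H ≤ normalizer (Z : Set Γ) := by
    intro l hl
    refine mem_normalizer_fintype fun a ha => ⟨(mem_normalizer_iff.1 (hn hl) _).1 ha.1,
      mem_centralizer_iff.2 fun w hw => ?_⟩
    have hw' : l⁻¹ * w * l ∈ W := (mem_normalizer_iff'.1 (hn hl) _).2 (by simpa [mul_assoc] using hw)
    have := mem_centralizer_iff.1 ha.2 _ hw'
    calc w * (l * a * l⁻¹) = l * ((l⁻¹ * w * l) * a) * l⁻¹ := by group
      _ = l * (a * (l⁻¹ * w * l)) * l⁻¹ := by rw [this]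
      _ = l * a * l⁻¹ * w := by group
  by_cases hall : ∀ u ∈ U, ∀ v ∈ Z, (v * (u * x)) ^ tor m 1 = (u * x) ^ tor m 1
  · have hcop : (Nat.card Z).Coprime (Nat.card U) := L.coprime fun h => by
      obtain ⟨k, hk⟩ := IsPGroup.iff_card.1 (hW.to_le (inf_le_left : Z ≤ W))
      exact hr ((Nat.prime_dvd_prime_iff_eq Nat.prime_two (Fact.out : r.Prime)).1
        (Nat.prime_two.dvd_of_dvd_pow (hk ▸ h))).symm
    haveI : IsMulCommutative Z := ⟨⟨fun a b => Subtype.ext (hZab a a.2 b b.2).eq⟩⟩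
    have hsolZ : Group.IsSolvable Z := Group.isSolvable_of_comm fun a b => Subtype.ext (hZab a a.2 b b.2).eq
    obtain ⟨u, hu, hu1⟩ := L.nontriv
    have hc := centralizes U x (by have := L.one_lt; omega) L.conj L.inj Z hsolZ hcop (fun y hy => hnZ (L.le hy))
      (hnZ L.mem) hall
    have hcov := D.cov_centralizer hH hnZ ⟨u, L.le hu, mem_centralizer_iff.2 fun w hw => (hc u hu w hw).eq.symm, hu1⟩
    obtain ⟨y, hy, ho, -⟩ := D.exists_order hcov 1
    exact ⟨y, hy.1, ho, z₀, hz₀.1, hz₀1, (mem_centralizer_iff.1 hy.2 z₀ hz₀).symm⟩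
  · push Not at hall
    obtain ⟨u, hu, v, hv, hne'⟩ := hall
    obtain ⟨w, hw, hw1, hc⟩ := fixed_of_norm hZab hv (hnZ (H.mul_mem (L.le hu) L.mem))
      (fun w hw => by rw [L.pow u hu]; exact Commute.one_left w) hne'
    exact ⟨u * x, H.mul_mem (L.le hu) L.mem, (L.orderOf_eq hu).1, w, hw.1, hw1, hc⟩

end OneTop

end Cfsg.Lib.SuzSquare
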