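import Mathlib
import Cfsg.Agent.SuzSquare.One.Central
import Cfsg.Agent.Elementary.ThreePrimes
import Cfsg.Agent.Thompson.FixedPointFree

/-!
A group with one simple quotient and solvable kernel has fewer element orders than the square.
-/

set_option autoImplicit false
set_option linter.unusedSectionVars false

namespace Cfsg.Lib.SuzSquare

open Subgroup
open scoped commutatorElement

universe u v

namespace OneTop

variable {m : ℕ} {Γ : Type u} [Group Γ] [Finite Γ] {F : Type v} [Field F] [Fintype F] (D : OneTop m Γ F)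

theorem dvd_orderOf_of_mem {W : Subgroup Γ} {p : ℕ} [Fact p.Prime] (hW : IsPGroup p W) {w : Γ} (hw : w ∈ W)
    (hw1 : w ≠ 1) : p ∣ orderOf w := by
  obtain ⟨k, hk⟩ := hW ⟨w, hw⟩
  obtain ⟨j, -, hj⟩ := (Nat.dvd_prime_pow Fact.out).1
    (orderOf_dvd_of_pow_eq_one (show w ^ p ^ k = 1 from congrArg Subtype.val hk))
  rcases Nat.eq_zero_or_pos j with rfl | hj0
  · exact absurd (orderOf_eq_one_iff.1 (by rw [hj, pow_zero])) hw1
  · exact hj ▸ dvd_pow_self p hj0.ne'

include D in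
theorem odd_card {W : Subgroup Γ} {p : ℕ} [Fact p.Prime] (hW : IsPGroup p W) {a : Fin 4} (hpa : p ∣ tor m a)
    (ha : a ≠ 0) : Odd (Nat.card W) := by
  obtain ⟨k, hk⟩ := IsPGroup.iff_card.1 hW
  rw [hk]
  exact ((Fact.out : p.Prime).odd_of_ne_two fun e => ha (two_class D.S.hm (e ▸ hpa))).pow

theorem le_normalizer_inf {H W : Subgroup Γ} (hn : H ≤ normalizer (W : Set Γ)) :
    H ≤ normalizer ((H ⊓ centralizer (W : Set Γ) : Subgroup Γ) : Set Γ) := by
  intro l hl
  refine mem_normalizer_fintype fun a ha => ⟨H.mul_mem (H.mul_mem hl ha.1) (H.inv_mem hl),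
    mem_centralizer_iff.2 fun w hw => ?_⟩
  have hw' : l⁻¹ * w * l ∈ W := (mem_normalizer_iff'.1 (hn hl) _).2 (by simpa [mul_assoc] using hw)
  have := mem_centralizer_iff.1 ha.2 _ hw'
  calc w * (l * a * l⁻¹) = l * ((l⁻¹ * w * l) * a) * l⁻¹ := by group
    _ = l * (a * (l⁻¹ * w * l)) * l⁻¹ := by rw [this]
    _ = l * a * l⁻¹ * w := by group

/-- An element of odd class centralised by a covering subgroup centralises no group of another odd class
normalised by it. -/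
theorem no_odd_pair {H W : Subgroup Γ} (hH : D.Cov H) (hn : H ≤ normalizer (W : Set Γ)) {p q : ℕ} [Fact p.Prime]
    (hq : q.Prime) {a b : Fin 4} (hW : IsPGroup p W) (hne : W ≠ ⊥) (hpa : p ∣ tor m a) (hqb : q ∣ tor m b)
    (hab : a ≠ b) (ha : a ≠ 0) (hb : b ≠ 0) {β : Γ} (hβ : q ∣ orderOf β) (hc : ∀ h ∈ H, Commute h β)
    (hβW : ∀ w ∈ W, Commute w β) : False := by
  obtain ⟨t, htH, ht, htψ, hto⟩ := D.exists_involution hH
  have key : ∀ s : Γ, s ∈ H → orderOf s = 2 → ∀ w ∈ W, w ≠ 1 → Commute s w → False := fun s hs hso w hw hw1 hsw =>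
    D.S.triple_commute Nat.prime_two (Fact.out : p.Prime) hq (i := 0) (dvd_mul_right 2 2) hpa hqb ha.symm hab hb.symm
      hso.symm.dvd (dvd_orderOf_of_mem hW hw hw1) hβ hsw (hc s hs) (hβW w hw) (orderOf_pos _) (orderOf_pos _)
      (orderOf_pos _)
  rcases D.fix_involution hH hn (D.odd_card hW hpa ha) htH ht htψ with ⟨w, hw, hw1, htw⟩ | hcov
  · exact key t htH hto w hw hw1 htw
  · obtain ⟨s, hs, -, -, hso⟩ := D.exists_involution hcov
    obtain ⟨w, hw, hw1⟩ := (W.bot_or_exists_ne_one).resolve_left hne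
    exact key s hs.1 hso w hw hw1 (mem_centralizer_iff.1 hs.2 w hw).symm

/-- A Sylow subgroup of a normalised part of the kernel, normalised by a covering subgroup. -/
theorem exists_sylow_cov {H W : Subgroup Γ} (hH : D.Cov H) (hWH : W ≤ H) (hn : H ≤ normalizer (W : Set Γ))
    (hWR : W ≤ D.ψ.ker) {p : ℕ} [Fact p.Prime] (hd : p ∣ Nat.card W) :
    ∃ P : Subgroup Γ, P ≤ W ∧ IsPGroup p P ∧ P ≠ ⊥ ∧ D.Cov (H ⊓ normalizer (P : Set Γ)) := by
  obtain ⟨P, hP⟩ := D.cov_sylow hH hWH hn hWR p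
  refine ⟨(P : Subgroup W).map W.subtype, map_subtype_le _, P.isPGroup'.map _, fun e => ?_, hP⟩
  exact P.ne_bot_of_dvd_card hd ((map_eq_bot_iff_of_injective _ W.subtype_injective).1 e)

/-- The centraliser of a group of class zero or one in the kernel covers. -/
theorem cov_centralizer_class {c : Fin 4} (hc : c = 0 ∨ c = 1) {H P : Subgroup Γ} (hH : D.Cov H)
    (hn : H ≤ normalizer (P : Set Γ)) {p : ℕ} [Fact p.Prime] (hP : IsPGroup p P) (hpc : p ∣ tor m c) :
    D.Cov (H ⊓ centralizer (P : Set Γ)) := by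
  rcases hc with rfl | rfl
  · have h2 := prime_of_zero (Fact.out : p.Prime) hpc
    subst h2
    exact D.two_central hH hn hP
  · haveI := hP.isNilpotent
    refine D.one_central hH hn inferInstance fun q hq hd => ?_
    obtain ⟨k, hk⟩ := IsPGroup.iff_card.1 hP
    rw [(Nat.prime_dvd_prime_iff_eq hq (Fact.out : p.Prime)).1 (hq.dvd_of_dvd_pow (hk ▸ hd))]
    exact hpc

/-- In the kernel an element of the class `c` commutes only with elements of that class. -/
theorem isolation {c : Fin 4} (hc : c = 0 ∨ c = 1) (hodd : c = 1 → ¬ 2 ∣ Nat.card D.ψ.ker) {z : Γ}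
    (hz : z ∈ D.ψ.ker) {p : ℕ} (hp : p.Prime) (hzo : orderOf z = p) (hpc : p ∣ tor m c) {w : Γ} (hw : w ∈ D.ψ.ker)
    {r : ℕ} (hr : r.Prime) (hrw : r ∣ orderOf w) (hcomm : Commute z w) : r ∣ tor m c := by
  haveI := Fact.mk hp
  haveI := Fact.mk hr
  obtain ⟨l, hl⟩ := D.S.cls hr (hrw.trans (orderOf_dvd_natCard w))
  rcases eq_or_ne l c with rfl | hlc
  · exact hl
  exfalso
  -- the centraliser of `z` covers
  have hzP : IsPGroup p (zpowers (⟨z, hz⟩ : D.ψ.ker)) :=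
    IsPGroup.of_card (n := 1) (by rw [Nat.card_zpowers, Subgroup.orderOf_mk, hzo, pow_one])
  obtain ⟨S, hS⟩ := hzP.exists_le_sylow
  have hN := D.cov_sylow_all D.cov_top le_top (fun g _ => by
    rw [normalizer_eq_top]; exact mem_top g) le_rfl S
  have hC := D.cov_centralizer_class hc hN inf_le_right (S.isPGroup'.map _) hpc
  set H := centralizer ({z} : Set Γ) with hHdef
  have hH : D.Cov H := Cov.mono D (fun g hg => by
    rw [hHdef, mem_centralizer_singleton_iff]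
    exact (mem_centralizer_iff.1 hg.2 z ⟨⟨z, hz⟩, hS (mem_zpowers _), rfl⟩).symm) hC
  have hzc : ∀ g ∈ H, Commute z g := fun g hg => ((mem_centralizer_singleton_iff.1 hg : g * z = z * g)).symm
  have hwH : w ∈ H := by rw [hHdef, mem_centralizer_singleton_iff]; exact hcomm.eq.symm
  obtain ⟨W, hWle, hWp, hWne, hH'⟩ := D.exists_sylow_cov (W := H ⊓ D.ψ.ker) hH inf_le_left
    (fun g hg => mem_normalizer_fintype fun a ha => ⟨H.mul_mem (H.mul_mem hg ha.1) (H.inv_mem hg),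
      (inferInstance : D.ψ.ker.Normal).conj_mem _ ha.2 g⟩) inf_le_right
    (hrw.trans (Subgroup.orderOf_dvd_natCard _ ⟨hwH, hw⟩))
  set H' := H ⊓ normalizer (W : Set Γ)
  have hn' : H' ≤ normalizer (W : Set Γ) := inf_le_right
  have hzp : p ∣ orderOf z := hzo.symm.dvd
  have hzW : ∀ v ∈ W, Commute z v := fun v hv => hzc v (hWle hv).1
  obtain ⟨v, hv, hv1⟩ := (W.bot_or_exists_ne_one).resolve_left hWne
  have triple : ∀ (y : Γ) (n : Fin 4) (u : Γ), y ∈ H → orderOf y = tor m n → u ∈ W → u ≠ 1 → Commute y u →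
      c ≠ n → n ≠ l → False := by
    intro y n u hy hyo hu hu1 hyu hcn hnl
    obtain ⟨q, hq, hqn⟩ := Nat.exists_prime_and_dvd (tor_gt_one D.S.hm n).ne'
    exact D.S.triple_commute hp hq hr hpc hqn hl hcn hnl hlc.symm hzp (hyo ▸ hqn) (dvd_orderOf_of_mem hWp hu hu1)
      (hzc y hy) (hzW u hu) hyu (orderOf_pos _) (orderOf_pos _) (orderOf_pos _)
  rcases hc with rfl | rfl
  · by_cases hl1 : l = 1
    · subst hl1
      have h1 := D.cov_centralizer_class (c := 1) (Or.inr rfl) hH' hn' hWp hl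
      obtain ⟨y, hy, hyo, -⟩ := D.exists_order h1 2
      exact triple y 2 v hy.1.1 hyo hv hv1 (mem_centralizer_iff.1 hy.2 v hv).symm (by decide) (by decide)
    · obtain ⟨y, hy, hyo, u, hu, hu1, hyu⟩ := D.fix_one hH' hn' (fun e => hlc (two_class D.S.hm (e ▸ hl))) hWp hWne
      exact triple y 1 u hy.1 hyo hu hu1 hyu (by decide) (Ne.symm hl1)
  · have hl0 : l ≠ 0 := by
      rintro rfl
      exact hodd rfl (prime_of_zero hr hl ▸ hrw.trans (Subgroup.orderOf_dvd_natCard _ hw))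
    exact D.no_odd_pair hH' hn' hp hWp hWne hl hpc hlc hl0 (by decide) hzp (fun g hg => (hzc g hg.1).symm)
      fun u hu => (hzW u hu).symm

/-- The last step: a commuting pair outside the radical of the kernel. -/
theorem pair_step {c : Fin 4} (hc : c = 0 ∨ c = 1) (hodd : c = 1 → ¬ 2 ∣ Nat.card D.ψ.ker) {M : Subgroup Γ}
    [M.Normal] (hM : M ≤ D.ψ.ker) {p : ℕ} (hp : p.Prime) (hpc : p ∣ tor m c) (hpM : p ∣ Nat.card M)
    {qa qb : ℕ} (hqa : qa.Prime) (hqb : qb.Prime) {a b : Fin 4} (hca : qa ∣ tor m a) (hcb : qb ∣ tor m b)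
    (hab : a ≠ b) (hbc : b ≠ c) (ha0 : a ≠ 0) (hb0 : b ≠ 0) (hnot : ¬ qb ∣ Nat.card M) {α β : Γ}
    (hα : α ∈ D.ψ.ker) (hβ : β ∈ D.ψ.ker) (hαo : orderOf α = qa) (hβo : orderOf β = qb) (hαβ : Commute α β) :
    False := by
  classical
  haveI := Fact.mk hp
  haveI := Fact.mk hqb
  obtain ⟨S⟩ := (inferInstance : Nonempty (Sylow p M))
  set S₀ : Subgroup Γ := (S : Subgroup M).map M.subtype with hS₀
  have hS₀p : IsPGroup p S₀ := S.isPGroup'.map _
  have hS₀M : S₀ ≤ M := map_subtype_le _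
  set N : Subgroup Γ := normalizer (S₀ : Set Γ) with hN
  have hNcov : D.Cov N := Cov.mono D inf_le_right
    (D.cov_sylow_all D.cov_top le_top (fun g _ => by rw [normalizer_eq_top]; exact mem_top g) hM S)
  -- a conjugate of `β` normalises `S₀`
  haveI htrans : MulAction.IsPretransitive M (Γ ⧸ N) := by
    have horb : ∀ x : Γ ⧸ N, ∃ k : M, k • ((1 : Γ) : Γ ⧸ N) = x := by
      intro x
      induction x using QuotientGroup.induction_on with
      | H g =>
        have hg : g ∈ N ⊔ M := by rw [hN, hS₀, Sylow.normalizer_sup_eq_top S]; exact mem_top g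
        obtain ⟨n, hn, k, hk, rfl⟩ := mem_sup_of_normal_right.1 hg
        refine ⟨⟨n * k * n⁻¹, (inferInstance : M.Normal).conj_mem k hk n⟩, ?_⟩
        show ((n * k * n⁻¹ * 1 : Γ) : Γ ⧸ N) = _
        rw [QuotientGroup.eq]
        simpa [mul_assoc] using hn
    refine ⟨fun x y => ?_⟩
    obtain ⟨k, rfl⟩ := horb x
    obtain ⟨l, rfl⟩ := horb y
    exact ⟨l * k⁻¹, by rw [smul_smul, inv_mul_cancel_right]⟩
  have hdvd : ¬ qb ∣ Nat.card (Γ ⧸ N) := fun h => hnot <| h.trans <| by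
    rw [← MulAction.index_stabilizer_of_transitive M ((1 : Γ) : Γ ⧸ N)]
    exact index_dvd_card _
  obtain ⟨x, hx⟩ := (IsPGroup.of_card (n := 1) (by rw [Nat.card_zpowers, hβo, pow_one]) :
    IsPGroup qb (zpowers β)).nonempty_fixed_point_of_prime_not_dvd_card (Γ ⧸ N) hdvd
  obtain ⟨g, rfl⟩ := QuotientGroup.mk_surjective x
  have hgβ : g⁻¹ * β * g ∈ N := by
    have h1 : ((β * g : Γ) : Γ ⧸ N) = (g : Γ ⧸ N) := hx ⟨β, mem_zpowers β⟩
    have h2 := N.inv_mem (QuotientGroup.eq.1 h1)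
    simpa [mul_assoc] using h2
  set β₁ := g⁻¹ * β * g with hβ₁def
  set α₁ := g⁻¹ * α * g with hα₁def
  have hβ₁ : β₁ ∈ D.ψ.ker := by
    simpa [hβ₁def] using (inferInstance : D.ψ.ker.Normal).conj_mem _ hβ g⁻¹
  have hα₁ : α₁ ∈ D.ψ.ker := by
    simpa [hα₁def] using (inferInstance : D.ψ.ker.Normal).conj_mem _ hα g⁻¹
  have hβ₁o : orderOf β₁ = qb := by
    rw [hβ₁def, show g⁻¹ * β * g = MulAut.conj g⁻¹ β by simp]
    rw [MulEquiv.orderOf_eq]; exact hβo
  have hα₁o : orderOf α₁ = qa := by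
    rw [hα₁def, show g⁻¹ * α * g = MulAut.conj g⁻¹ α by simp]
    rw [MulEquiv.orderOf_eq]; exact hαo
  have hα₁β₁ : Commute α₁ β₁ := by
    rw [hα₁def, hβ₁def, Commute, SemiconjBy]
    calc g⁻¹ * α * g * (g⁻¹ * β * g) = g⁻¹ * (α * β) * g := by group
      _ = g⁻¹ * (β * α) * g := by rw [hαβ.eq]
      _ = _ := by group
  -- the centraliser of `S₀` in its normaliser
  set H := N ⊓ centralizer (S₀ : Set Γ) with hHdef
  have hHcov : D.Cov H := D.cov_centralizer_class hc hNcov le_rfl hS₀p hpc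
  have hHn : N ≤ normalizer (H : Set Γ) := le_normalizer_inf le_rfl
  set C := H ⊓ D.ψ.ker with hCdef
  have hCn : N ≤ normalizer (C : Set Γ) := fun l hl =>
    mem_normalizer_fintype fun a ha => ⟨(mem_normalizer_iff.1 (hHn hl) a).1 ha.1,
      (inferInstance : D.ψ.ker.Normal).conj_mem _ ha.2 l⟩
  obtain ⟨z, hzS, hzo⟩ : ∃ z ∈ S₀, orderOf z = p := by
    obtain ⟨⟨z, hz⟩, hzo⟩ := exists_prime_orderOf_dvd_card' (G := S₀) p (by
      rw [hS₀, card_subtype]; exact S.dvd_card_of_dvd_card hpM)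
    exact ⟨z, hz, by rwa [Subgroup.orderOf_mk] at hzo⟩
  have hCno : ¬ qb ∣ Nat.card C := fun h => by
    obtain ⟨⟨v, hv⟩, hvo⟩ := exists_prime_orderOf_dvd_card' (G := C) qb h
    rw [Subgroup.orderOf_mk] at hvo
    exact hbc (class_unique D.S.hm hqb hcb (D.isolation hc hodd (hM (hS₀M hzS)) hp hzo hpc hv.2 hqb hvo.symm.dvd
      (mem_centralizer_iff.1 hv.1.2 z hzS)))
  let Y : Subgroup Γ :=
    { carrier := {l | l ∈ N ∧ l * β₁ * l⁻¹ * β₁⁻¹ ∈ C}
      one_mem' := ⟨one_mem _, by simp⟩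
      mul_mem' := fun {a b} ha hb => ⟨N.mul_mem ha.1 hb.1, by
        have h1 := (mem_normalizer_iff.1 (hCn ha.1) _).1 hb.2
        have h2 := C.mul_mem h1 ha.2
        convert h2 using 1
        group⟩
      inv_mem' := fun {a} ha => ⟨N.inv_mem ha.1, by
        have h1 := (mem_normalizer_iff'.1 (hCn ha.1) (a⁻¹ * (a * β₁ * a⁻¹ * β₁⁻¹)⁻¹)).2 (by
          simpa [mul_assoc] using C.inv_mem ha.2)
        convert h1 using 1
        group⟩ }
  have hHY : H ≤ Y := fun l hl => ⟨hl.1, by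
    refine ⟨?_, MonoidHom.mem_ker.2 ?_⟩
    · have h1 : β₁ * l⁻¹ * β₁⁻¹ ∈ H := (mem_normalizer_iff.1 (hHn hgβ) _).1 (H.inv_mem hl)
      simpa [mul_assoc] using H.mul_mem hl h1
    · rw [map_mul, map_mul, map_mul, map_inv, map_inv, MonoidHom.mem_ker.1 hβ₁]; simp⟩
  have hβY : β₁ ∈ Y := ⟨hgβ, by simp⟩
  set X := C ⊔ zpowers β₁ with hXdef
  have hXY : X ≤ Y := sup_le (inf_le_left.trans hHY) (zpowers_le.2 hβY)
  have hYX : Y ≤ normalizer (X : Set Γ) := fun l hl => by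
    refine mem_normalizer_fintype fun a ha => ?_
    have hle : X ≤ X.comap (MulAut.conj l).toMonoidHom := by
      refine sup_le (fun v hv => ?_) (zpowers_le.2 ?_)
      · exact (le_sup_left : C ≤ X) ((mem_normalizer_iff.1 (hCn hl.1) v).1 hv)
      · show l * β₁ * l⁻¹ ∈ X
        have h1 := X.mul_mem ((le_sup_left : C ≤ X) hl.2) ((le_sup_right : zpowers β₁ ≤ X) (mem_zpowers β₁))
        simpa [mul_assoc] using h1
    exact hle ha
  have hXR : X ≤ D.ψ.ker := sup_le inf_le_right (zpowers_le.2 hβ₁)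
  have hβP : IsPGroup qb (zpowers (⟨β₁, (le_sup_right : zpowers β₁ ≤ X) (mem_zpowers β₁)⟩ : X)) :=
    IsPGroup.of_card (n := 1) (by rw [Nat.card_zpowers, Subgroup.orderOf_mk, hβ₁o, pow_one])
  obtain ⟨P, hP⟩ := hβP.exists_le_sylow
  have hYP := D.cov_sylow_all (Cov.mono D hHY hHcov) hXY hYX hXR P
  set H₄ := centralizer ({β₁} : Set Γ) with hH₄def
  have hH₄ : D.Cov H₄ := Cov.mono D (fun l hl => by
    have hβP' : β₁ ∈ (P : Subgroup X).map X.subtype := ⟨_, hP (mem_zpowers _), rfl⟩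
    have hd : l * β₁ * l⁻¹ * β₁⁻¹ ∈ (P : Subgroup X).map X.subtype :=
      Subgroup.mul_mem _ ((mem_normalizer_iff.1 hl.2 _).1 hβP') (Subgroup.inv_mem _ hβP')
    have h1 : l * β₁ * l⁻¹ * β₁⁻¹ = 1 := by
      by_contra hne
      exact hCno ((dvd_orderOf_of_mem (P.isPGroup'.map X.subtype) hd hne).trans
        (Subgroup.orderOf_dvd_natCard C hl.1.2))
    rw [hH₄def, mem_centralizer_singleton_iff]
    exact mul_inv_eq_iff_eq_mul.1 (mul_inv_eq_one.1 h1)) hYP
  have hcβ : ∀ l ∈ H₄, Commute l β₁ := fun l hl => mem_centralizer_singleton_iff.1 hl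
  have hα₄ : α₁ ∈ H₄ := by rw [hH₄def, mem_centralizer_singleton_iff]; exact hα₁β₁.eq
  haveI := Fact.mk hqa
  obtain ⟨W, hWle, hWp, hWne, hH₅⟩ := D.exists_sylow_cov (W := H₄ ⊓ D.ψ.ker) (p := qa) hH₄ inf_le_left
    (fun l hl => mem_normalizer_fintype fun v hv => ⟨H₄.mul_mem (H₄.mul_mem hl hv.1) (H₄.inv_mem hl),
      (inferInstance : D.ψ.ker.Normal).conj_mem _ hv.2 l⟩) inf_le_right
    (hα₁o ▸ Subgroup.orderOf_dvd_natCard _ ⟨hα₄, hα₁⟩)
  exact D.no_odd_pair hH₅ inf_le_right hqb hWp hWne hca hcb hab ha0 hb0 hβ₁o.symm.dvd (fun l hl => hcβ l hl.1)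
    fun v hv => hcβ v (hWle hv).1

/-- The radical prime to the class `c` of the kernel, and the next abelian layer. -/
theorem exists_layers [Group.IsSolvable D.ψ.ker] (c : Fin 4) {z : Γ} (hz : z ∈ D.ψ.ker) {p : ℕ} (hp : p.Prime)
    (hzo : orderOf z = p) (hpc : p ∣ tor m c) :
    ∃ K M : Subgroup Γ, K.Normal ∧ M.Normal ∧ K ≤ D.ψ.ker ∧ M ≤ D.ψ.ker ∧
      (∀ r : ℕ, r.Prime → r ∣ Nat.card K → ¬ r ∣ tor m c) ∧
      (∀ r : ℕ, r.Prime → r ∣ Nat.card M → ¬ r ∣ tor m c → r ∣ Nat.card K) ∧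
      ∃ r : ℕ, r.Prime ∧ r ∣ tor m c ∧ r ∣ Nat.card M := by
  classical
  obtain ⟨K, ⟨hKn, hKR, hKc⟩, hKmax⟩ :=
    (Set.toFinite {K : Subgroup Γ | K.Normal ∧ K ≤ D.ψ.ker ∧
      ∀ r : ℕ, r.Prime → r ∣ Nat.card K → ¬ r ∣ tor m c}).exists_maximal
    ⟨⊥, inferInstance, bot_le, fun r hr h => absurd (Subgroup.card_bot (G := Γ) ▸ h) hr.not_dvd_one⟩
  let f : ℕ → Subgroup Γ := fun n => (derivedSeries D.ψ.ker n).map D.ψ.ker.subtype
  have hfR : ∀ n, f n ≤ D.ψ.ker := fun n => map_subtype_le _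
  have hf0 : f 0 = D.ψ.ker := by simp [f, ← MonoidHom.range_eq_map]
  have hfs : ∀ n, f (n + 1) = ⁅f n, f n⁆ := fun n => by simp [f, derivedSeries_succ, map_commutator]
  have hfn : ∀ n, (f n).Normal := by
    intro n
    induction n with
    | zero => rw [hf0]; infer_instance
    | succ n ih => rw [hfs]; infer_instance
  obtain ⟨N, hNsol⟩ := Group.IsSolvable.solvable (G := D.ψ.ker)
  have hex : ∃ n, f n ≤ K := ⟨N, by simp [f, hNsol]⟩
  have hn0 : Nat.find hex ≠ 0 := fun e => by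
    have h1 := Nat.find_spec hex
    rw [e, hf0] at h1
    exact hKc p hp (hzo ▸ Subgroup.orderOf_dvd_natCard K (h1 hz)) hpc
  obtain ⟨n, hn⟩ := Nat.exists_eq_succ_of_ne_zero hn0
  haveI := hfn n
  set M := f n ⊔ K with hMdef
  haveI hMn : M.Normal := inferInstance
  have hMR : M ≤ D.ψ.ker := sup_le (hfR n) hKR
  have hab : ∀ a ∈ M, ∀ b ∈ M, Commute (QuotientGroup.mk' K a) (QuotientGroup.mk' K b) := by
    have hrep : ∀ a ∈ M, ∃ a' ∈ f n, QuotientGroup.mk' K a' = QuotientGroup.mk' K a := by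
      intro a ha
      obtain ⟨a', ha', k, hk, rfl⟩ := mem_sup_of_normal_right.1 ha
      exact ⟨a', ha', by rw [map_mul, (QuotientGroup.eq_one_iff k).2 hk |> fun h => (h : QuotientGroup.mk' K k = 1),
        mul_one]⟩
    intro a ha b hb
    obtain ⟨a', ha', ea⟩ := hrep a ha
    obtain ⟨b', hb', eb⟩ := hrep b hb
    have hle := Nat.find_spec hex
    rw [hn] at hle
    have h1 : ⁅a', b'⁆ ∈ K := hle (by
      show ⁅a', b'⁆ ∈ f (n + 1)
      rw [hfs]; exact commutator_mem_commutator ha' hb')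
    have h2 : QuotientGroup.mk' K ⁅a', b'⁆ = 1 := (QuotientGroup.eq_one_iff _).2 h1
    rw [map_commutatorElement, commutatorElement_eq_one_iff_commute] at h2
    rwa [← ea, ← eb]
  refine ⟨K, M, hKn, hMn, hKR, hMR, hKc, fun r hr hrM hrc => ?_, ?_⟩
  · by_contra hrK
    let M₁ : Subgroup Γ :=
      { carrier := {g | g ∈ M ∧ (QuotientGroup.mk' K g) ^ r = 1}
        one_mem' := ⟨one_mem _, by simp⟩
        mul_mem' := fun {a b} ha hb => ⟨M.mul_mem ha.1 hb.1, by
          rw [map_mul, (hab a ha.1 b hb.1).mul_pow, ha.2, hb.2, one_mul]⟩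
        inv_mem' := fun {a} ha => ⟨M.inv_mem ha.1, by rw [map_inv, inv_pow, ha.2, inv_one]⟩ }
    haveI : M₁.Normal := ⟨fun a ha g => ⟨hMn.conj_mem a ha.1 g, by
      rw [map_mul, map_mul, map_inv, conj_pow, ha.2, mul_one, mul_inv_cancel]⟩⟩
    have hKM₁ : K ≤ M₁ := fun k hk => ⟨(le_sup_right : K ≤ M) hk, by
      rw [(QuotientGroup.eq_one_iff k).2 hk |> fun h => (h : QuotientGroup.mk' K k = 1), one_pow]⟩
    have hM₁K : M₁ ≤ K := hKmax ⟨inferInstance, fun g hg => hMR hg.1, fun s hs hsM => by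
      rcases eq_or_ne s r with rfl | hsr
      · exact hrc
      haveI := Fact.mk hs
      obtain ⟨⟨g, hg⟩, hgo⟩ := exists_prime_orderOf_dvd_card' (G := M₁) s hsM
      rw [Subgroup.orderOf_mk] at hgo
      refine hKc s hs (hgo ▸ Subgroup.orderOf_dvd_natCard K ?_)
      rw [← QuotientGroup.eq_one_iff]
      show QuotientGroup.mk' K g = 1
      have h1 : (QuotientGroup.mk' K g) ^ s = 1 := by rw [← map_pow, ← hgo, pow_orderOf_eq_one, map_one]
      have h2 := pow_gcd_eq_one.2 ⟨h1, hg.2⟩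
      rwa [(Nat.coprime_primes hs hr).2 hsr, pow_one] at h2⟩ hKM₁
    haveI := Fact.mk hr
    obtain ⟨⟨g, hg⟩, hgo⟩ := exists_prime_orderOf_dvd_card' (G := M) r hrM
    rw [Subgroup.orderOf_mk] at hgo
    exact hrK (hgo ▸ Subgroup.orderOf_dvd_natCard K (hM₁K ⟨hg, by
      rw [← map_pow, ← hgo, pow_orderOf_eq_one, map_one]⟩))
  · by_contra hno
    push Not at hno
    have hMK : M ≤ K := hKmax ⟨hMn, hMR, fun r hr hd hrc => hno r hr hrc hd⟩ le_sup_right
    exact Nat.find_min hex (by omega : n < Nat.find hex) ((le_sup_left : f n ≤ M).trans hMK)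

/-- The radical prime to the class `c` has no primes from two odd classes. -/
theorem radical_one_class {c : Fin 4} (hc : c = 0 ∨ c = 1) (hodd : c = 1 → ¬ 2 ∣ Nat.card D.ψ.ker) {z : Γ}
    (hz : z ∈ D.ψ.ker) {p : ℕ} (hp : p.Prime) (hzo : orderOf z = p) (hpc : p ∣ tor m c) {K : Subgroup Γ}
    [hKn : K.Normal] (hKR : K ≤ D.ψ.ker) (hKc : ∀ r : ℕ, r.Prime → r ∣ Nat.card K → ¬ r ∣ tor m c)
    {qa qb : ℕ} (hqa : qa.Prime) (hqb : qb.Prime) {a b : Fin 4} (hca : qa ∣ tor m a) (hcb : qb ∣ tor m b)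
    (hab : a ≠ b) (ha0 : a ≠ 0) (hb0 : b ≠ 0) (hqaK : qa ∣ Nat.card K) : ¬ qb ∣ Nat.card K := by
  intro hqbK
  haveI := Fact.mk hqa
  haveI := Fact.mk hqb
  let φ : K →* K :=
    { toFun := fun w => ⟨z * w * z⁻¹, hKn.conj_mem _ w.2 z⟩
      map_one' := Subtype.ext (by simp)
      map_mul' := fun x y => Subtype.ext (by simp [mul_assoc]) }
  have hfp : MonoidHom.FixedPointFree φ := by
    intro w hw
    by_contra hne
    have hne' : (w : Γ) ≠ 1 := fun e => hne (Subtype.ext e)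
    obtain ⟨r, hr, hrw⟩ := Nat.exists_prime_and_dvd (fun h => hne' (orderOf_eq_one_iff.1 h))
    exact hKc r hr (hrw.trans (Subgroup.orderOf_dvd_natCard K w.2))
      (D.isolation hc hodd hz hp hzo hpc (hKR w.2) hr hrw (mul_inv_eq_iff_eq_mul.1 (congrArg Subtype.val hw)))
  have hit : ∀ (j : ℕ) (w : K), ((φ^[j] w : K) : Γ) = z ^ j * w * (z ^ j)⁻¹ := by
    intro j w
    induction j with
    | zero => simp
    | succ j ih =>
      rw [Function.iterate_succ_apply']
      show z * ((φ^[j] w : K) : Γ) * z⁻¹ = _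
      rw [ih, pow_succ']
      group
  haveI : Group.IsNilpotent K := Cfsg.Lib.Thompson.isNilpotent_of_fpf φ hfp hp (funext fun w => Subtype.ext (by
    rw [hit, ← hzo, pow_orderOf_eq_one]; simp))
  obtain ⟨A⟩ := (inferInstance : Nonempty (Sylow qa K))
  obtain ⟨B⟩ := (inferInstance : Nonempty (Sylow qb K))
  haveI hAn : (A : Subgroup K).Normal := Sylow.normal_of_normalizerCondition Group.normalizerCondition_of_isNilpotent A
  haveI hBn : (B : Subgroup K).Normal := Sylow.normal_of_normalizerCondition Group.normalizerCondition_of_isNilpotent B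
  set P := (A : Subgroup K).map K.subtype with hPdef
  set Q := (B : Subgroup K).map K.subtype with hQdef
  haveI : (A : Subgroup K).Characteristic := A.characteristic_of_normal hAn
  haveI : (B : Subgroup K).Characteristic := B.characteristic_of_normal hBn
  have hPn : P.Normal := ConjAct.normal_of_characteristic_of_normal
  have hQn : Q.Normal := ConjAct.normal_of_characteristic_of_normal
  have hPp : IsPGroup qa P := A.isPGroup'.map _
  have hQp : IsPGroup qb Q := B.isPGroup'.map _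
  have hPne : P ≠ ⊥ := fun e =>
    A.ne_bot_of_dvd_card hqaK ((map_eq_bot_iff_of_injective _ K.subtype_injective).1 e)
  have hQne : Q ≠ ⊥ := fun e =>
    B.ne_bot_of_dvd_card hqbK ((map_eq_bot_iff_of_injective _ K.subtype_injective).1 e)
  have hne : qa ≠ qb := fun e => hab (class_unique D.S.hm hqa hca (e ▸ hcb))
  have hPQ : ∀ x ∈ P, ∀ y ∈ Q, Commute x y := fun x hx y hy =>
    commute_of_normal_of_disjoint P Q hPn hQn (IsPGroup.disjoint_of_ne _ _ hne P Q hPp hQp) x y hx hy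
  obtain ⟨t, -, ht, htψ, hto⟩ := D.exists_involution D.cov_top
  have htop : ∀ {X : Subgroup Γ}, X.Normal → (⊤ : Subgroup Γ) ≤ normalizer (X : Set Γ) := fun hX g _ => by
    haveI := hX
    rw [normalizer_eq_top]; exact mem_top g
  have key : ∀ {r r' : ℕ} {X X' : Subgroup Γ} {i i' : Fin 4} [Fact r.Prime] [Fact r'.Prime], X.Normal → X'.Normal →
      IsPGroup r X → IsPGroup r' X' → X ≠ ⊥ → X' ≠ ⊥ → r ∣ tor m i → r' ∣ tor m i' → i ≠ i' → i ≠ 0 → i' ≠ 0 →
      (∀ x ∈ X, ∀ y ∈ X', Commute x y) → D.Cov (⊤ ⊓ centralizer (X : Set Γ)) → False := by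
    intro r r' X X' i i' _ _ hX hX' hXp hXp' hXne hXne' hi hi' hii h0 h0' hXX hcov
    obtain ⟨x, hx, hx1⟩ := (X.bot_or_exists_ne_one).resolve_left hXne
    exact D.no_odd_pair hcov (fun g hg => htop hX' hg.1) (Fact.out : r.Prime) hXp' hXne' hi' hi hii.symm h0' h0
      (dvd_orderOf_of_mem hXp hx hx1) (fun g hg => (mem_centralizer_iff.1 hg.2 x hx).symm)
      fun y hy => (hXX x hx y hy).symm
  rcases D.fix_involution D.cov_top (htop hPn) (D.odd_card hPp hca ha0) (mem_top t) ht htψ with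
    ⟨u, hu, hu1, htu⟩ | h
  · rcases D.fix_involution D.cov_top (htop hQn) (D.odd_card hQp hcb hb0) (mem_top t) ht htψ with
      ⟨v, hv, hv1, htv⟩ | h
    · exact D.S.triple_commute Nat.prime_two hqa hqb (i := 0) (dvd_mul_right 2 2) hca hcb ha0.symm hab hb0.symm
        hto.symm.dvd (dvd_orderOf_of_mem hPp hu hu1) (dvd_orderOf_of_mem hQp hv hv1) htu htv (hPQ u hu v hv)
        (orderOf_pos _) (orderOf_pos _) (orderOf_pos _)
    · exact key hQn hPn hQp hPp hQne hPne hcb hca hab.symm hb0 ha0 (fun y hy x hx => (hPQ x hx y hy).symm) h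
  · exact key hPn hQn hPp hQp hPne hQne hca hcb hab ha0 hb0 hPQ h

include D in
/-- A single simple quotient with solvable kernel is impossible. -/
theorem false_of_pairs [Group.IsSolvable D.ψ.ker]
    (hpairs : ∀ i j : Fin 4, i ≠ j → ∃ p q : ℕ, p.Prime ∧ q.Prime ∧ p ∣ tor m i ∧ q ∣ tor m j ∧
      ∃ g : Γ, p ∣ orderOf g ∧ q ∣ orderOf g) : False := by
  classical
  let cl : Fin 4 → Prop := fun i => ∃ p : ℕ, p.Prime ∧ p ∣ tor m i ∧ p ∣ Nat.card D.ψ.ker
  have hcl : ∀ i j : Fin 4, i ≠ j → cl i ∨ cl j := by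
    intro i j hij
    obtain ⟨p, q, hp, hq, hpi, hqj, g, hpg, hqg⟩ := hpairs i j hij
    obtain ⟨l, hl⟩ := order_dvd D.Q (D.ψ g)
    have main : ∀ r : ℕ, r.Prime → r ∣ orderOf g → ¬ r ∣ orderOf (D.ψ g) → r ∣ Nat.card D.ψ.ker := by
      intro r hr hrg hrn
      have h1 : orderOf g ∣ orderOf (D.ψ g) * Nat.card D.ψ.ker := by
        refine orderOf_dvd_of_pow_eq_one ?_
        rw [pow_mul]
        refine orderOf_dvd_iff_pow_eq_one.1 (Subgroup.orderOf_dvd_natCard _ (MonoidHom.mem_ker.2 ?_))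
        rw [map_pow, pow_orderOf_eq_one]
      exact (hr.dvd_mul.1 (hrg.trans h1)).resolve_left hrn
    by_cases hil : p ∣ orderOf (D.ψ g)
    · refine Or.inr ⟨q, hq, hqj, main q hq hqg fun h => hij ?_⟩
      rw [class_unique D.S.hm hp hpi (hil.trans hl), class_unique D.S.hm hq hqj (h.trans hl)]
    · exact Or.inl ⟨p, hp, hpi, main p hp hpg hil⟩
  obtain ⟨c, hc, hodd, hcc, a, b, hca, hcb, hab, ha, hb, ha0, hb0, hac, hbc⟩ :
      ∃ c : Fin 4, (c = 0 ∨ c = 1) ∧ (c = 1 → ¬ 2 ∣ Nat.card D.ψ.ker) ∧ cl c ∧ ∃ a b : Fin 4,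
        cl a ∧ cl b ∧ a ≠ b ∧ True ∧ True ∧ a ≠ 0 ∧ b ≠ 0 ∧ a ≠ c ∧ b ≠ c := by
    by_cases h0 : cl 0
    · refine ⟨0, Or.inl rfl, fun h => absurd h (by decide), h0, ?_⟩
      by_cases h1 : cl 1
      · rcases hcl 2 3 (by decide) with h | h
        · exact ⟨1, 2, h1, h, by decide, trivial, trivial, by decide, by decide, by decide, by decide⟩
        · exact ⟨1, 3, h1, h, by decide, trivial, trivial, by decide, by decide, by decide, by decide⟩
      · exact ⟨2, 3, (hcl 1 2 (by decide)).resolve_left h1, (hcl 1 3 (by decide)).resolve_left h1, by decide,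
          trivial, trivial, by decide, by decide, by decide, by decide⟩
    · refine ⟨1, Or.inr rfl, fun _ h => h0 ⟨2, Nat.prime_two, dvd_mul_right 2 2, h⟩,
        (hcl 0 1 (by decide)).resolve_left h0, 2, 3, (hcl 0 2 (by decide)).resolve_left h0,
        (hcl 0 3 (by decide)).resolve_left h0, by decide, trivial, trivial, by decide, by decide, by decide,
        by decide⟩
  obtain ⟨p, hp, hpc, hpR⟩ := hcc
  obtain ⟨qa, hqa, hqaa, hqaR⟩ := hca
  obtain ⟨qb, hqb, hqbb, hqbR⟩ := hcb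
  haveI := Fact.mk hp
  obtain ⟨⟨z, hz⟩, hzo⟩ := exists_prime_orderOf_dvd_card' (G := D.ψ.ker) p hpR
  rw [Subgroup.orderOf_mk] at hzo
  have hne : ∀ {r s : ℕ} {i j : Fin 4}, r.Prime → r ∣ tor m i → s ∣ tor m j → i ≠ j → r ≠ s :=
    fun hr hi hj hij e => hij (class_unique D.S.hm hr hi (e ▸ hj))
  -- an edge avoiding the class `c`
  obtain ⟨x, y, hx, hy, hxo, hyo, hxy⟩ : ∃ x y : Γ, x ∈ D.ψ.ker ∧ y ∈ D.ψ.ker ∧ orderOf x = qa ∧ orderOf y = qb ∧
      Commute x y := by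
    have nab := hne hqa hqaa hqbb hab
    have nap := hne hqa hqaa hpc hac
    have nbp := hne hqb hqbb hpc hbc
    obtain ⟨r, hr, s, hs, hrs, g, hg⟩ := Cfsg.Lib.ThreePrimes.edge_solvable (G := D.ψ.ker) {p, qa, qb}
      (by rw [Finset.card_insert_of_notMem (by simp [nap.symm, nbp.symm]), Finset.card_pair nab])
      (by
        intro l hl
        simp only [Finset.mem_insert, Finset.mem_singleton] at hl
        rcases hl with rfl | rfl | rfl <;> first | exact ⟨hp, hpR⟩ | exact ⟨hqa, hqaR⟩ | exact ⟨hqb, hqbR⟩)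
    have hgo : orderOf (g : Γ) = r * s := by rw [Subgroup.orderOf_coe, hg]
    have build : ∀ r s : ℕ, r.Prime → s.Prime → orderOf (g : Γ) = r * s →
        orderOf ((g : Γ) ^ s) = r ∧ orderOf ((g : Γ) ^ r) = s := by
      intro r s hr hs h
      constructor
      · rw [orderOf_pow_of_dvd hs.ne_zero (h ▸ dvd_mul_left s r), h, Nat.mul_div_cancel _ hs.pos]
      · rw [orderOf_pow_of_dvd hr.ne_zero (h ▸ dvd_mul_right r s), h, Nat.mul_div_cancel_left _ hr.pos]
    have excl : ∀ (s : ℕ) (i : Fin 4), s.Prime → s ∣ tor m i → i ≠ c → orderOf (g : Γ) = p * s → False := by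
      intro s i hs hsi hic h
      obtain ⟨e1, e2⟩ := build p s hp hs h
      exact hic (class_unique D.S.hm hs hsi (D.isolation hc hodd (pow_mem g.2 s) hp e1 hpc (pow_mem g.2 p) hs
        e2.symm.dvd ((Commute.refl (g : Γ)).pow_pow _ _)))
    simp only [Finset.mem_insert, Finset.mem_singleton] at hr hs
    rcases hr with rfl | rfl | rfl <;> rcases hs with rfl | rfl | rfl
    · exact absurd rfl hrs
    · exact (excl _ a hqa hqaa hac hgo).elim
    · exact (excl _ b hqb hqbb hbc hgo).elim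
    · exact (excl _ a hqa hqaa hac (hgo.trans (mul_comm _ _))).elim
    · exact absurd rfl hrs
    · obtain ⟨e1, e2⟩ := build _ _ hqa hqb hgo
      exact ⟨_, _, pow_mem g.2 _, pow_mem g.2 _, e1, e2, (Commute.refl (g : Γ)).pow_pow _ _⟩
    · exact (excl _ b hqb hqbb hbc (hgo.trans (mul_comm _ _))).elim
    · obtain ⟨e1, e2⟩ := build _ _ hqb hqa hgo
      exact ⟨_, _, pow_mem g.2 _, pow_mem g.2 _, e2, e1, (Commute.refl (g : Γ)).pow_pow _ _⟩
    · exact absurd rfl hrs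
  obtain ⟨K, M, hKn, hMn, hKR, hMR, hKc, hMK, r, hr, hrc, hrM⟩ := D.exists_layers c hz hp hzo hpc
  haveI := hKn
  haveI := hMn
  by_cases hbK : qb ∣ Nat.card K
  · have haK : ¬ qa ∣ Nat.card K :=
      D.radical_one_class hc hodd hz hp hzo hpc hKR hKc hqb hqa hqbb hqaa hab.symm hb0 ha0 hbK
    exact D.pair_step hc hodd hMR hr hrc hrM hqb hqa hqbb hqaa hab.symm hac hb0 ha0
      (fun h => haK (hMK qa hqa h fun h' => hac (class_unique D.S.hm hqa hqaa h'))) hy hx hyo hxo hxy.symm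
  · exact D.pair_step hc hodd hMR hr hrc hrM hqa hqb hqaa hqbb hab hbc ha0 hb0
      (fun h => hbK (hMK qb hqb h fun h' => hbc (class_unique D.S.hm hqb hqbb h'))) hx hy hxo hyo hxy

end OneTop

end Cfsg.Lib.SuzSquare
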